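import Cfsg.Agent.Lib.Signalizer.Solvable.Flavell
import Cfsg.Agent.Lib.Core.Hall

/-!
Owner: helper11. Invariant Hall subgroups of a solvable subgroup, and operators centralising a Sylow
subgroup of a group of biprimary order.
-/

set_option autoImplicit false
set_option maxHeartbeats 400000

namespace CfsgLib.Signalizer.Solv

open Subgroup
open scoped commutatorElement Pointwise

variable {G : Type*} [Group G] [Finite G]

/-- An invariant Hall subgroup. -/
theorem exists_invariant_hall {A K : Subgroup G} (hAK : A ≤ normalizer (K : Set G))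
    (hcop : (Nat.card A).Coprime (Nat.card K)) [Group.IsSolvable K] (π : Set ℕ) :
    ∃ H : Subgroup G, H ≤ K ∧ A ≤ normalizer (H : Set G) ∧
      (∀ s : ℕ, s.Prime → s ∣ Nat.card H → s ∈ π) ∧
      ∀ s : ℕ, s.Prime → s ∈ π → ¬ s ∣ H.relIndex K := by
  obtain ⟨H₀, hH₀⟩ := Core.exists_piHall (G := K) π
  set H := H₀.map K.subtype with hH
  have hHK : H ≤ K := map_subtype_le _
  have hHH : H.subgroupOf K = H₀ := comap_map_eq_self_of_injective K.subtype_injective _
  obtain ⟨k, hk, hkA⟩ := Core.exists_invariant_conj hAK hcop (Or.inr inferInstance) (P := H)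
    fun a ha => by
      have hle : MulAut.conj a • H ≤ K := fun x hx => by
        rw [Core.mem_conj_smul_iff] at hx
        simpa [mul_assoc] using Core.conj_mem_of_le_normalizer hAK ha (hHK hx)
      obtain ⟨l, hl⟩ := Core.piHall_conj (G := K) hH₀ (K := (MulAut.conj a • H).subgroupOf K)
        ⟨fun s hs hd => hH₀.1 s hs (by
          rwa [Nat.card_congr (subgroupOfEquivOfLe hle).toEquiv, Core.card_conj_smul, hH,
            card_map_of_injective K.subtype_injective] at hd), fun s hs hsπ hd => hH₀.2 s hs hsπ (by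
          have he : ((MulAut.conj a • H).subgroupOf K).index = H₀.index := by
            apply Nat.eq_of_mul_eq_mul_left (Nat.card_pos (α := H₀))
            rw [H₀.card_mul_index, ← ((MulAut.conj a • H).subgroupOf K).card_mul_index,
              Nat.card_congr (subgroupOfEquivOfLe hle).toEquiv, Core.card_conj_smul, hH,
              card_map_of_injective K.subtype_injective]
          exact he ▸ hd)⟩
      refine ⟨l, l.2, ?_⟩
      exact (Core.conj_smul_eq_of_subgroupOf hHK hle l (hHH.symm ▸ hl)).symm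
  have hle : MulAut.conj k • H ≤ K := fun x hx => by
    rw [Core.mem_conj_smul_iff] at hx
    simpa [mul_assoc] using K.mul_mem (K.mul_mem hk (hHK hx)) (K.inv_mem hk)
  refine ⟨_, hle, hkA, fun s hs hd => hH₀.1 s hs ?_, fun s hs hsπ hd => hH₀.2 s hs hsπ ?_⟩
  · rwa [Core.card_conj_smul, hH, card_map_of_injective K.subtype_injective] at hd
  · have he : ((MulAut.conj k • H).subgroupOf K).index = H₀.index := by
      apply Nat.eq_of_mul_eq_mul_left (Nat.card_pos (α := H₀))
      rw [H₀.card_mul_index, ← ((MulAut.conj k • H).subgroupOf K).card_mul_index,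
        Nat.card_congr (subgroupOfEquivOfLe hle).toEquiv, Core.card_conj_smul, hH,
        card_map_of_injective K.subtype_injective]
    exact he ▸ hd

variable {p q r : ℕ} [hp : Fact p.Prime] [hq : Fact q.Prime] [hr : Fact r.Prime]

/-- An operator centralising a Sylow `q`-subgroup of a `{q, r}`-group moves it into `O_r`. -/
theorem comm_le_oq_of_biprimary (hqr : q ≠ r) {H : Subgroup G} [Group.IsSolvable H] {a : G}
    (hap : a ^ p = 1) (hH : ¬ p ∣ Nat.card H) (haH : a ∈ normalizer (H : Set G))
    (hpr : ∀ s : ℕ, s.Prime → s ∣ Nat.card H → s = q ∨ s = r) (P : Sylow q H)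
    (hP : (P : Subgroup H).map H.subtype ≤ centralizer ({a} : Set G)) :
    ⁅H, zpowers a⁆ ≤ oq r H := by
  set R := oq r H with hR
  set N := normalizer (R : Set G)
  haveI : (R.subgroupOf N).Normal := normal_in_normalizer
  let π := QuotientGroup.mk' (R.subgroupOf N)
  have hHN : H ≤ N := le_normalizer_oq r H
  have haN : a ∈ N := normalizer_le_normalizer_oq r H haH
  set Hb := (H.subgroupOf N).map π with hHb
  haveI : Group.IsSolvable (H.subgroupOf N) := Core.isSolvable_subgroupOf ‹_›
  haveI : Group.IsSolvable Hb := Core.isSolvable_map π inferInstance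
  have hHbd : Nat.card Hb ∣ Nat.card H :=
    ((H.subgroupOf N).card_map_dvd π).trans (Nat.card_congr (subgroupOfEquivOfLe hHN).toEquiv).dvd
  have hbot : oq r Hb = ⊥ := by
    refine (eq_bot_iff_forall _).mpr fun x hx => ?_
    obtain ⟨⟨h, hhN⟩, hh, rfl⟩ := oq_le r Hb hx
    refine (QuotientGroup.eq_one_iff _).mpr ?_
    let S : Subgroup G := (((oq r Hb).comap π).map N.subtype) ⊓ H
    have hS : S ≤ R := by
      refine le_oq inf_le_right ?_ fun g hg => mem_normalizer_of_forall_le ?_
      · refine IsPGroup.to_le ?_ inf_le_left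
        refine IsPGroup.map ?_ _
        refine (oq_isPGroup r Hb).comap_of_ker_isPGroup π ?_
        rw [QuotientGroup.ker_mk']
        exact (oq_isPGroup r H).comap_subtype
      · rintro _ ⟨⟨s, hs, rfl⟩, hsH⟩
        refine ⟨⟨⟨g, hHN hg⟩ * s * ⟨g, hHN hg⟩⁻¹, ?_, rfl⟩,
          H.mul_mem (H.mul_mem hg hsH) (H.inv_mem hg)⟩
        show π _ ∈ oq r Hb
        rw [map_mul, map_mul, map_inv]
        exact (mem_normalizer_iff.mp
          (le_normalizer_oq r Hb (mem_map_of_mem π (show (⟨g, hHN hg⟩ : N) ∈ H.subgroupOf N from hg)))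
          _).mp hs
    exact hS ⟨⟨⟨h, hhN⟩, hx, rfl⟩, hh⟩
  have haHb : π ⟨a, haN⟩ ∈ normalizer (Hb : Set _) := by
    refine le_normalizer_map π ⟨⟨a, haN⟩, ?_, rfl⟩
    rw [← subgroupOf_normalizer_eq hHN]
    exact haH
  -- the operator fixes `O_q` of the quotient
  let f : H →* Hb := (π.subgroupMap (H.subgroupOf N)).comp (subgroupOfEquivOfLe hHN).symm.toMonoidHom
  have hf : Function.Surjective f :=
    (π.subgroupMap_surjective _).comp (subgroupOfEquivOfLe hHN).symm.surjective
  have hfix : oq q Hb ≤ centralizer ({π ⟨a, haN⟩} : Set _) := by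
    rintro _ ⟨x, hx, rfl⟩
    have hxP : x ∈ ((P.mapSurjective hf : Sylow q Hb) : Subgroup Hb) :=
      Core.pCore_le_sylow _ hx
    rw [Sylow.coe_mapSurjective] at hxP
    obtain ⟨y, hy, rfl⟩ := hxP
    rw [mem_centralizer_singleton_iff]
    show π _ * π _ = π _ * π _
    rw [← map_mul, ← map_mul]
    exact congrArg π (Subtype.ext (mem_centralizer_singleton_iff.mp (hP ⟨y, hy, rfl⟩)))
  have hHc : Hb ≤ centralizer ({π ⟨a, haN⟩} : Set _) := by
    refine centralizes_of_centralizes_cores haHb ?_ fun s hs => ?_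
    · have hp1 : π ⟨a, haN⟩ ^ p = 1 := by
        rw [← map_pow, show (⟨a, haN⟩ : N) ^ p = 1 from Subtype.ext hap, map_one]
      exact (hp.out.coprime_iff_not_dvd.mpr fun hd => hH (hd.trans hHbd)).coprime_dvd_left
        (orderOf_dvd_of_pow_eq_one hp1)
    · have hle : oq s Hb ≤ centralizer ({π ⟨a, haN⟩} : Set _) := by
        haveI := Fact.mk hs
        by_cases hsb : oq s Hb = ⊥
        · rw [hsb]; exact bot_le
        obtain ⟨k, hk⟩ := (oq_isPGroup s Hb).exists_card_eq
        have hsd : s ∣ Nat.card H := by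
          refine ((hk ▸ dvd_pow_self s ?_ : s ∣ Nat.card (oq s Hb)).trans
            (card_dvd_of_le (oq_le s Hb))).trans hHbd
          rintro rfl
          rw [pow_zero, card_eq_one] at hk
          exact hsb hk
        rcases hpr s hs hsd with rfl | rfl
        · exact hfix
        · rw [hbot]; exact bot_le
      exact mem_centralizer_iff.mpr fun y hy => mem_centralizer_singleton_iff.mp (hle hy)
  refine commutator_le.mpr fun x hx b hb => ?_
  obtain ⟨j, rfl⟩ := mem_zpowers_iff.mp hb
  have hc : Commute (π ⟨a, haN⟩) (π ⟨x, hHN hx⟩) :=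
    (mem_centralizer_singleton_iff.mp (hHc ⟨⟨x, hHN hx⟩, hx, rfl⟩)).symm
  refine (QuotientGroup.eq_one_iff (N := R.subgroupOf N)
    (⁅(⟨x, hHN hx⟩ : N), (⟨a, haN⟩ : N) ^ j⁆)).mp ?_
  show π _ = 1
  rw [map_commutatorElement, commutatorElement_eq_one_iff_mul_comm, map_zpow]
  exact ((hc.zpow_left j).eq).symm

end CfsgLib.Signalizer.Solv
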