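import Cfsg.Agent.Lib.Signalizer.Solvable.Members

/-!
Owner: helper11. Bender's uniqueness argument for maximal members of a solvable signalizer functor.
-/

set_option autoImplicit false
set_option maxHeartbeats 400000

namespace CfsgLib.Signalizer.Solv

open Subgroup
open scoped commutatorElement

variable {G : Type*} [Group G] [Finite G] {p : ℕ} [hp : Fact p.Prime] {A : Subgroup G}
  {θ : G → Subgroup G} {M K X Y : Subgroup G} {q : ℕ}

local notation "Fam" => Cfsg.signalizerFamily p A θ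

omit hp in
theorem oq_mono_normal (hX : X ≤ K) (hn : K ≤ normalizer (X : Set G)) (r : ℕ) :
    oq r X ≤ oq r K :=
  le_oq ((oq_le r X).trans hX) (oq_isPGroup r X) (hn.trans (normalizer_le_normalizer_oq r X))

omit hp in
theorem oq_commute {u v : ℕ} (hu : u.Prime) (hv : v.Prime) (h : u ≠ v) :
    oq u M ≤ centralizer (oq v M : Set G) :=
  (oq_le_oq' hv hu h).trans (oq'_le_centralizer_oq hv)

omit hp in
theorem pure_of_unique (hs : Group.IsSolvable M) (hq : q.Prime)
    (h : ∀ r : ℕ, r.Prime → r ≠ q → oq r M = ⊥) : oq' q M = ⊥ := by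
  by_contra hne
  haveI := Core.isSolvable_of_le hs (oq'_le q M)
  obtain ⟨r, hr, hne'⟩ := exists_oq_ne_bot hne
  have hle := oq_mono_normal (oq'_le q M) (le_normalizer_oq' q M) r
  by_cases hrq : r = q
  · subst hrq
    exact hne' (le_bot_iff.mp ((le_inf hle (oq_le r _)).trans (inf_oq_oq' hq).le))
  · exact hne' (le_bot_iff.mp (hle.trans (h r hr hrq).le))

/-- A subgroup in the complementary cores centralises `O_{u'}`. -/
theorem centralizes_oq' (hs : Group.IsSolvable K) {u : ℕ} (hu : u.Prime) (hXK : X ≤ K)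
    (h : ∀ v : ℕ, v.Prime → v ≠ u → oq v K ≠ ⊥ → X ≤ oq' v K) :
    oq' u K ≤ centralizer (X : Set G) := by
  set J := oq' u K ⊓ ⨅ v : {v : ℕ // v.Prime ∧ v ≠ u ∧ oq v K ≠ ⊥}, oq' (v : ℕ) K with hJ
  have hJK : J ≤ K := inf_le_left.trans (oq'_le u K)
  have hKJ : K ≤ normalizer (J : Set G) := by
    intro k hk
    refine mem_normalizer_of_forall_le fun x hx => ⟨?_, mem_iInf.mpr fun v => ?_⟩
    · exact (mem_normalizer_iff.mp (le_normalizer_oq' u K hk) x).mp hx.1
    · exact (mem_normalizer_iff.mp (le_normalizer_oq' _ K hk) x).mp (mem_iInf.mp hx.2 v)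
  have hJ1 : J = ⊥ := by
    by_contra hne
    haveI := Core.isSolvable_of_le hs hJK
    obtain ⟨t, ht, hne'⟩ := exists_oq_ne_bot hne
    have hle := oq_mono_normal hJK hKJ t
    by_cases htu : t = u
    · subst htu
      exact hne' (le_bot_iff.mp
        ((le_inf hle fun x hx => (hJ.le (oq_le t J hx)).1).trans (inf_oq_oq' ht).le))
    · have htK : oq t K ≠ ⊥ := fun e => hne' (le_bot_iff.mp (hle.trans e.le))
      have h2 : oq t J ≤ oq' t K := fun x hx =>
        mem_iInf.mp (hJ.le (oq_le t J hx)).2 ⟨t, ht, htu, htK⟩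
      exact hne' (le_bot_iff.mp ((le_inf hle h2).trans (inf_oq_oq' ht).le))
  rw [← commutator_eq_bot_iff_le_centralizer, ← le_bot_iff, ← hJ1]
  refine le_inf (le_normalizer_iff_commutator_le_left.mp (hXK.trans (le_normalizer_oq' u K))) ?_
  refine le_iInf fun v => (commutator_mono le_rfl (h v v.2.1 v.2.2.1 v.2.2.2)).trans ?_
  exact le_normalizer_iff_commutator_le_right.mp ((oq'_le u K).trans (le_normalizer_oq' _ K))

/-! ### Maximal members with a single nontrivial core -/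

theorem pure_ne_bot (h : Hyp p A θ) (hM : IsTop p A θ M) (hq : q.Prime) (hp' : oq' q M = ⊥) :
    oq q M ≠ ⊥ := by
  obtain ⟨r, hr, hne⟩ := exists_oq_top h hM
  by_cases hrq : r = q
  · exact hrq ▸ hne
  · exact absurd (le_bot_iff.mp ((oq_le_oq' hq hr hrq).trans hp'.le)) hne

theorem pure_center (h : Hyp p A θ) (hM : IsTop p A θ M) [hq : Fact q.Prime] (hp' : oq' q M = ⊥)
    (P : Sylow q M) (hAP : A ≤ normalizer ((P : Subgroup M).map M.subtype : Set G)) :
    M ≤ normalizer (Cfsg.centerThompsonOf q ((P : Subgroup M).map M.subtype) : Set G) ∧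
      ∀ Y ∈ Fam, Y ≤ normalizer (Cfsg.centerThompsonOf q ((P : Subgroup M).map M.subtype) : Set G) →
        Y ≤ M := by
  haveI := hM.1.1
  set PG := (P : Subgroup M).map M.subtype with hPG
  have hd : q ∣ Nat.card M := dvd_of_oq_ne_bot hq.out (pure_ne_bot h hM hq.out hp')
  have h0 : Cfsg.pPrimeCore q M = ⊥ :=
    (map_eq_bot_iff_of_injective _ M.subtype_injective).mp hp'
  have hn := OddLocal.centerThompson_sup_normal (G := M) (fam_odd h.toSetup hM.1)
    (prime_ne_two_of_dvd h.toSetup hM.1 hq.out hd) P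
  rw [h0, sup_bot_eq] at hn
  have hB : (Cfsg.centerThompsonOf q (P : Subgroup M)).map M.subtype =
      Cfsg.centerThompsonOf q PG :=
    OddLocal.centerThompson_map M.subtype _
      (by rw [M.ker_subtype]; exact disjoint_bot_right)
  have hMB : M ≤ normalizer (Cfsg.centerThompsonOf q PG : Set G) := by
    rw [← hB]
    exact le_normalizer_map_normal _
  have hBM : Cfsg.centerThompsonOf q PG ≤ M :=
    (OddLocal.centerThompson_le PG).trans (map_subtype_le _)
  have hBf : Cfsg.centerThompsonOf q PG ∈ Fam :=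
    family_of_le hM.1 hBM (hAP.trans (OddLocal.normalizer_le_normalizer_centerThompson PG))
  have hB1 : Cfsg.centerThompsonOf q PG ≠ ⊥ := by
    have hPp : IsPGroup q PG := P.isPGroup'.map _
    haveI : Nontrivial PG := by
      refine Finite.one_lt_card_iff_nontrivial.mp ?_
      rw [hPG, card_map_of_injective M.subtype_injective, P.card_eq_multiplicity]
      exact Nat.one_lt_pow (hq.out.factorization_pos_of_dvd Nat.card_pos.ne' hd).ne' hq.out.one_lt
    haveI := hPp.center_nontrivial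
    obtain ⟨z, hz⟩ := exists_prime_orderOf_dvd_card' (G := center PG) q (by
      obtain ⟨k, hk⟩ := (hPp.to_subgroup (center PG)).exists_card_eq
      rw [hk]
      refine dvd_pow_self q fun hk0 => ?_
      rw [hk0, pow_zero] at hk
      exact absurd hk Finite.one_lt_card.ne')
    set x : G := ((z : PG) : G) with hx
    have hxo : orderOf x = q := by rw [hx, Subgroup.orderOf_coe, Subgroup.orderOf_coe, hz]
    have hxq : x ^ q = 1 := hxo ▸ pow_orderOf_eq_one x
    have hxc : ∀ y ∈ PG, y * x = x * y := fun y hy =>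
      congrArg Subtype.val (mem_center_iff.mp z.2 ⟨y, hy⟩)
    intro hb
    have hxB : x ∈ Cfsg.centerThompsonOf q PG := by
      refine ⟨?_, mem_centralizer_iff.mpr fun y hy => hxc y ((map_subtype_le _) hy)⟩
      show x ∈ Cfsg.thompsonSubgroupOf q PG
      rw [OddLocal.thompsonOf_eq_sSup]
      obtain ⟨A₁, hA₁⟩ := PLocal.exists_maxIn (PLocal.goodPred_elementary q) PG
      exact le_sSup (a := A₁) hA₁ (OddLocal.mem_of_commute hA₁ (z : PG).2 hxq
        fun a ha => hxc a (hA₁.1 ha))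
    rw [hb, mem_bot] at hxB
    rw [hxB, orderOf_one] at hxo
    exact hq.out.one_lt.ne hxo
  exact ⟨hMB, fun Y hY hYB => le_top_of_normalizes h hM hBf hB1 hMB hY hYB⟩

theorem pure_maxMember (h : Hyp p A θ) (hM : IsTop p A θ M) [hq : Fact q.Prime]
    (hp' : oq' q M = ⊥) (P : Sylow q M)
    (hAP : A ≤ normalizer ((P : Subgroup M).map M.subtype : Set G)) :
    IsMaxMember p A θ q ((P : Subgroup M).map M.subtype) := by
  set PG := (P : Subgroup M).map M.subtype with hPG
  refine ⟨family_of_le hM.1 (map_subtype_le _) hAP, P.isPGroup'.map _, fun R hR hRq hle => ?_⟩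
  by_contra hne
  have hgrow := Transfer.lt_inf_normalizer hRq (lt_of_le_of_ne hle (Ne.symm hne))
  have hT : R ⊓ normalizer (PG : Set G) ≤ M :=
    (pure_center h hM hp' P hAP).2 _ (mem_inf hR (hAP.trans le_normalizer))
      (inf_le_right.trans (OddLocal.normalizer_le_normalizer_centerThompson PG))
  have hP := P.3 (Q := (R ⊓ normalizer (PG : Set G)).comap M.subtype)
    ((hRq.to_le inf_le_left).comap_subtype) fun x hx =>
      hgrow.le (mem_map_of_mem M.subtype hx)
  refine hgrow.not_ge fun x hx => ?_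
  exact ⟨⟨x, hT hx⟩, hP.le hx, rfl⟩

theorem exists_inv_sylow (hS : Setup p A θ) (hM : M ∈ Fam) (q : ℕ) [Fact q.Prime] :
    ∃ P : Sylow q M, A ≤ normalizer ((P : Subgroup M).map M.subtype : Set G) :=
  Core.exists_invariant_sylow (fam_norm hM)
    (coprime_card_of_pGroup (elementary_isPGroup hS.elem) (fam_not_dvd hM)) (Or.inr hM.1) q

theorem pure_contains (h : Hyp p A θ) (hM : IsTop p A θ M) [hq : Fact q.Prime]
    (hp' : oq' q M = ⊥) (hC : Cfsg.signalizerInf A θ ≤ M) (hY : Y ∈ Fam) (hYq : IsPGroup q Y) :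
    Y ≤ M := by
  obtain ⟨P, hP⟩ := exists_inv_sylow h.toSetup hM.1 q
  obtain ⟨Q, hYQ, hQ⟩ := exists_maxMember hY hYq
  obtain ⟨c, hc, rfl⟩ := transitivity h.elem h.card.ge h.functor (pure_maxMember h hM hp' P hP) hQ
  refine hYQ.trans ?_
  rintro _ ⟨x, hx, rfl⟩
  exact M.mul_mem (M.mul_mem (hC hc) (map_subtype_le _ hx)) (M.inv_mem (hC hc))

theorem pure_eq (h : Hyp p A θ) (hM : IsTop p A θ M) (hK : IsTop p A θ K) (hq : q.Prime)
    (hM' : oq' q M = ⊥) (hK' : oq' q K = ⊥) (hCM : Cfsg.signalizerInf A θ ≤ M) : K = M := by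
  haveI := Fact.mk hq
  obtain ⟨P, hP⟩ := exists_inv_sylow h.toSetup hM.1 q
  obtain ⟨R, hR⟩ := exists_inv_sylow h.toSetup hK.1 q
  obtain ⟨c, hc, he⟩ := transitivity h.elem h.card.ge h.functor (pure_maxMember h hM hM' P hP)
    (pure_maxMember h hK hK' R hR)
  have hB : Cfsg.centerThompsonOf q ((R : Subgroup K).map K.subtype) =
      Cfsg.centerThompsonOf q ((P : Subgroup M).map M.subtype) := by
    rw [← he, ← OddLocal.centerThompson_map _ _ (by
      rw [(MonoidHom.ker_eq_bot_iff _).2 (MulAut.conj c).injective]; exact disjoint_bot_right)]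
    exact mem_normalizer_iff_map_conj_eq.mp ((pure_center h hM hM' P hP).1 (hCM hc))
  exact hK.eq hM.1 ((pure_center h hM hM' P hP).2 K hK.1 (hB ▸ (pure_center h hK hK' R hR).1))

/-! ### Bender's argument -/

/-- A part of one core lies in the complementary core of another maximal member. -/
theorem part_le (h : Hyp p A θ) (hM : IsTop p A θ M) (hK : IsTop p A θ K) {u v : ℕ} (hu : u.Prime)
    (hv : v.Prime) (huv : u ≠ v) (hvK : oq v M ≤ K) (hne : oq v M ≠ ⊥) :
    oq u M ⊓ K ≤ oq' v K := by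
  haveI := Fact.mk hu
  haveI := Fact.mk hv
  haveI := hK.1.1
  refine le_oq'_of_local hvK (oq_isPGroup v M) inf_le_right
    (coprime_pgroup ((oq_isPGroup u M).to_le inf_le_left)
      fun hd => huv ((Nat.prime_dvd_prime_iff_eq hu hv).mp hd))
    (inf_le_left.trans ((oq_commute hu hv huv).trans (centralizer_le_normalizer _))) ?_
  have hle := le_top_of_oq h hM hne (mem_inf hK.1 ((le_normalizer_oq_of (fam_norm hM.1) v).trans
    le_normalizer)) inf_le_right
  exact fun x hx => inf_normalizer_le_normalizer_inf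
    ⟨le_normalizer_oq u M (hle hx), le_normalizer hx.1⟩

theorem bender_aux (h : Hyp p A θ) (hM : IsTop p A θ M) (hK : IsTop p A θ K) (hq : q.Prime)
    {u₀ : ℕ} (hu₀ : u₀.Prime) (hu₀q : u₀ ≠ q) (hu₀M : oq u₀ M ≠ ⊥)
    (hparts : ∀ u : ℕ, u.Prime → u ≠ q → oq u M ≤ K) (hne : oq q M ⊓ K ≠ ⊥)
    (hN : ∀ Y ∈ Fam, Y ≤ normalizer ((oq q M ⊓ K : Subgroup G) : Set G) → Y ≤ M)
    (hπ : ∀ r : ℕ, r.Prime → oq r K ≠ ⊥ → oq r M ≠ ⊥) :
    oq' q K ≤ M ∧ (∀ r : ℕ, r.Prime → oq r K ≤ M) ∧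
      ∀ r : ℕ, r.Prime → oq r M ≠ ⊥ → oq r K ≠ ⊥ := by
  haveI := Fact.mk hq
  haveI := hK.1.1
  have hQ0A : A ≤ normalizer ((oq q M ⊓ K : Subgroup G) : Set G) :=
    le_normalizer_inf (le_normalizer_oq_of (fam_norm hM.1) q) (fam_norm hK.1)
  have hYQ : oq' q K ≤ centralizer ((oq q M ⊓ K : Subgroup G) : Set G) :=
    centralizes_oq' hK.1.1 hq inf_le_right fun v hv hvq hvK =>
      part_le h hM hK hq hv (Ne.symm hvq) (hparts v hv hvq) (hπ v hv hvK)
  have hY : oq' q K ≤ M :=
    hN _ (mem_oq' hK.1 q) (hYQ.trans (centralizer_le_normalizer _))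
  have hUY : ∀ u : ℕ, u.Prime → u ≠ q → oq' u K ≤ centralizer (oq u M : Set G) := by
    intro u hu huq
    haveI := Fact.mk hu
    refine centralizes_oq' hK.1.1 hu (hparts u hu huq) fun v hv hvu hvK => ?_
    by_cases hvq : v = q
    · subst hvq
      refine le_oq'_of_local inf_le_right ((oq_isPGroup v M).to_le inf_le_left) (hparts u hu huq)
        (coprime_pgroup (oq_isPGroup u M) fun hd =>
          huq ((Nat.prime_dvd_prime_iff_eq hu hv).mp hd))
        ((oq_commute hu hv huq).trans ((centralizer_le (SetLike.coe_subset_coe.mpr inf_le_left)).trans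
          (centralizer_le_normalizer _))) ?_
      exact (hN _ (mem_inf hK.1 (hQ0A.trans le_normalizer)) inf_le_right).trans
        (le_normalizer_oq u M)
    · exact (le_inf le_rfl (hparts u hu huq)).trans
        (part_le h hM hK hu hv (Ne.symm hvu) (hparts v hv hvq) (hπ v hv hvK))
  refine ⟨hY, fun r hr => ?_, fun r hr hrM => ?_⟩
  · by_cases hrq : r = q
    · subst hrq
      exact (oq_le_oq' hu₀ hr (Ne.symm hu₀q)).trans (le_top_of_centralizes_oq h hM hu₀M
        (mem_oq' hK.1 u₀) (hUY u₀ hu₀ hu₀q))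
    · exact (oq_le_oq' hq hr hrq).trans hY
  · intro hrK
    haveI := Fact.mk hr
    by_cases hrq : r = q
    · subst hrq
      refine hne (le_bot_iff.mp (hrK ▸ le_oq_of_centralizes inf_le_right
        ((oq_isPGroup r M).to_le inf_le_left) fun s hs => ?_))
      by_cases hsr : s = r
      · subst hsr
        rw [hrK]
        exact fun x _ => mem_centralizer_iff.mpr fun y hy => by rw [mem_bot.mp hy, one_mul, mul_one]
      · exact le_centralizer_iff.mp ((oq_le_oq' hr hs hsr).trans hYQ)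
    · refine hrM (le_bot_iff.mp (hrK ▸ le_oq_of_centralizes (hparts r hr hrq) (oq_isPGroup r M)
        fun s hs => ?_))
      by_cases hsr : s = r
      · subst hsr
        rw [hrK]
        exact fun x _ => mem_centralizer_iff.mpr fun y hy => by rw [mem_bot.mp hy, one_mul, mul_one]
      · exact le_centralizer_iff.mp ((oq_le_oq' hr hs hsr).trans (hUY r hr hrq))

/-- **Bender's uniqueness argument.** -/
theorem bender (h : Hyp p A θ) (hM : IsTop p A θ M) (hK : IsTop p A θ K) (hq : q.Prime)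
    {u₀ : ℕ} (hu₀ : u₀.Prime) (hu₀q : u₀ ≠ q) (hu₀M : oq u₀ M ≠ ⊥)
    (hparts : ∀ u : ℕ, u.Prime → u ≠ q → oq u M ≤ K) (hne : oq q M ⊓ K ≠ ⊥)
    (hN : ∀ Y ∈ Fam, Y ≤ normalizer ((oq q M ⊓ K : Subgroup G) : Set G) → Y ≤ M)
    (hπ : ∀ r : ℕ, r.Prime → oq r K ≠ ⊥ → oq r M ≠ ⊥) : K = M := by
  haveI := Fact.mk hq
  obtain ⟨-, hFK, hπ'⟩ := bender_aux h hM hK hq hu₀ hu₀q hu₀M hparts hne hN hπ
  have hQM : oq q M ≠ ⊥ := fun e => hne (le_bot_iff.mp (inf_le_left.trans e.le))
  have hQK : oq q K ≠ ⊥ := hπ' q hq hQM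
  have hQK' : oq q K ⊓ M = oq q K := inf_eq_left.mpr (hFK q hq)
  obtain ⟨hYM, hFM, -⟩ := bender_aux h hK hM hq hu₀ hu₀q (hπ' u₀ hu₀ hu₀M)
    (fun u hu _ => hFK u hu) (by rw [hQK']; exact hQK)
    (fun Y hY hYn => le_top_of_oq h hK hQK hY (by rwa [hQK'] at hYn)) hπ'
  have hQM' : oq q M ⊓ K = oq q M := inf_eq_left.mpr (hFM q hq)
  obtain ⟨hYK, -, -⟩ := bender_aux h hM hK hq hu₀ hu₀q hu₀M hparts hne hN hπ
  have loc : ∀ {M K : Subgroup G}, IsTop p A θ M → IsTop p A θ K → oq q K ≠ ⊥ → oq q K ≤ M →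
      oq' q K ≤ M → oq' q K ≤ oq' q M := by
    intro M K hM hK hne hQ hY
    haveI := hM.1.1
    refine le_oq'_of_local hQ (oq_isPGroup q K) hY (coprime_oq' q K)
      ((oq'_le q K).trans (le_normalizer_oq q K)) ?_
    exact (le_top_of_oq h hK hne (mem_inf hM.1 ((le_normalizer_oq_of (fam_norm hK.1) q).trans
      le_normalizer)) inf_le_right).trans (le_normalizer_oq' q K)
  have heq : oq' q K = oq' q M :=
    le_antisymm (loc hM hK hQK (hFK q hq) hYK) (loc hK hM hQM (hFM q hq) hYM)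
  have hY1 : oq' q M ≠ ⊥ := fun e => hu₀M (le_bot_iff.mp ((oq_le_oq' hq hu₀ hu₀q).trans e.le))
  exact hK.eq hM.1 (le_top_of_normalizes h hM (mem_oq' hM.1 q) hY1 (le_normalizer_oq' q M) hK.1
    (heq ▸ le_normalizer_oq' q K))

/-- A maximal member containing the cores of another one, with no further primes, equals it. -/
theorem eq_of_cores_le (h : Hyp p A θ) (hM : IsTop p A θ M) (hK : IsTop p A θ K)
    (hCM : Cfsg.signalizerInf A θ ≤ M) (hF : ∀ r : ℕ, r.Prime → oq r M ≤ K)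
    (hπ : ∀ r : ℕ, r.Prime → oq r K ≠ ⊥ → oq r M ≠ ⊥) : K = M := by
  obtain ⟨q, hq, hqM⟩ := exists_oq_top h hM
  by_cases hmix : ∃ u : ℕ, u.Prime ∧ u ≠ q ∧ oq u M ≠ ⊥
  · obtain ⟨u, hu, huq, huM⟩ := hmix
    have hQ : oq q M ⊓ K = oq q M := inf_eq_left.mpr (hF q hq)
    exact bender h hM hK hq hu huq huM (fun v hv _ => hF v hv) (by rw [hQ]; exact hqM)
      (fun Y hY hYn => le_top_of_oq h hM hqM hY (by rwa [hQ] at hYn)) hπ
  · push Not at hmix
    refine pure_eq h hM hK hq (pure_of_unique hM.1.1 hq hmix) (pure_of_unique hK.1.1 hq ?_) hCM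
    intro r hr hrq
    by_contra hne
    exact hπ r hr hne (hmix r hr hrq)

/-- All primes of the functor occur in the cores. -/
def Full (A : Subgroup G) (θ : G → Subgroup G) (M : Subgroup G) : Prop :=
  ∀ r : ℕ, InPi A θ r → oq r M ≠ ⊥

/-- Uniqueness for a maximal member whose cores involve all primes, and more than one. -/
theorem good (h : Hyp p A θ) (hM : IsTop p A θ M) (hfull : Full A θ M) (hq : q.Prime)
    {u₀ : ℕ} (hu₀ : u₀.Prime) (hu₀q : u₀ ≠ q) (hu₀M : oq u₀ M ≠ ⊥) :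
    ∀ X : Subgroup G, X ≠ ⊥ → X ≤ oq q M → A ≤ normalizer (X : Set G) → ∀ K : Subgroup G,
      IsTop p A θ K → (∀ Y ∈ Fam, Y ≤ normalizer (X : Set G) → Y ≤ K) → K = M := by
  intro X
  induction X using WellFoundedGT.induction with
  | ind X ih =>
    intro hX1 hXQ hXA K hK hKX
    by_cases hXe : X = oq q M
    · subst hXe
      exact (hM.eq hK.1 (hKX M hM.1 (le_normalizer_oq q M))).symm
    haveI := Fact.mk hq
    have hgrow := Transfer.lt_inf_normalizer (oq_isPGroup q M) (lt_of_le_of_ne hXQ hXe)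
    have hlt : X < oq q M ⊓ K := lt_of_lt_of_le hgrow (le_inf inf_le_left
      (hKX _ (mem_inf (mem_oq hM.1 q) (hXA.trans le_normalizer)) inf_le_right))
    have hne : oq q M ⊓ K ≠ ⊥ := ne_bot_of_gt hlt
    have hA0 : A ≤ normalizer ((oq q M ⊓ K : Subgroup G) : Set G) :=
      le_normalizer_inf (le_normalizer_oq_of (fam_norm hM.1) q) (fam_norm hK.1)
    refine bender h hM hK hq hu₀ hu₀q hu₀M (fun u hu huq => hKX _ (mem_oq hM.1 u) ?_) hne ?_
      fun r hr hne' => hfull r (inPi_of_oq_ne_bot h.toSetup hK.1 hr hne')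
    · exact (oq_commute hu hq huq).trans ((centralizer_le (SetLike.coe_subset_coe.mpr hXQ)).trans
        (centralizer_le_normalizer _))
    · intro Y hY hYn
      obtain ⟨L, hL, hLX⟩ := exists_local_top h (mem_inf (mem_oq hM.1 q) (fam_norm hK.1)) hne
      exact ih _ hlt hne inf_le_left hA0 L hL hLX ▸ hLX Y hY hYn

theorem good_le (h : Hyp p A θ) (hM : IsTop p A θ M) (hfull : Full A θ M) (hq : q.Prime)
    {u₀ : ℕ} (hu₀ : u₀.Prime) (hu₀q : u₀ ≠ q) (hu₀M : oq u₀ M ≠ ⊥) (hX1 : X ≠ ⊥)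
    (hXQ : X ≤ oq q M) (hXA : A ≤ normalizer (X : Set G)) (hY : Y ∈ Fam)
    (hYX : Y ≤ normalizer (X : Set G)) : Y ≤ M := by
  obtain ⟨L, hL, hLX⟩ := exists_local_top h (family_of_le (mem_oq hM.1 q) hXQ hXA) hX1
  exact good h hM hfull hq hu₀ hu₀q hu₀M X hX1 hXQ hXA L hL hLX ▸ hLX Y hY hYX

end CfsgLib.Signalizer.Solv
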