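import Cfsg.Prelude.Def_Amalgam
import Cfsg.Agent.Lib.Signalizer.Basic
import Cfsg.Agent.Lib.Core.SolvableStruct
import Cfsg.Agent.Lib.OddLocal.Coprime
import Cfsg.Agent.Lib.LocalEvenB.Basic
import Cfsg.Agent.Lib.PLocal.PConstrained
import Cfsg.Agent.Lib.Techniques2.WeakClosure

/-!
Owner: helper11. Cores of solvable subgroups, as used in the proof of the solvable signalizer
functor theorem.
-/

set_option autoImplicit false

namespace CfsgLib.Signalizer.Solv

open Subgroup
open scoped commutatorElement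

variable {G : Type*} [Group G]

/-- `O_q(H)` as a subgroup of the ambient group. -/
abbrev oq (q : ℕ) (H : Subgroup G) : Subgroup G := Cfsg.pCoreOf q H

/-- `O_{q'}(H)` as a subgroup of the ambient group. -/
def oq' (q : ℕ) (H : Subgroup G) : Subgroup G := (Cfsg.pPrimeCore q H).map H.subtype

variable {H X Y : Subgroup G} {q : ℕ}

theorem centralizer_zpowers (a : G) :
    centralizer (zpowers a : Set G) = centralizer ({a} : Set G) := by
  rw [zpowers_eq_closure, centralizer_closure]

theorem comm_eq_bot_iff {a : G} : ⁅X, zpowers a⁆ = ⊥ ↔ X ≤ centralizer ({a} : Set G) := by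
  rw [commutator_eq_bot_iff_le_centralizer, centralizer_zpowers]

theorem comm_le_centralizer {a : G} {T : Subgroup G} (ha : a ∈ centralizer (T : Set G))
    (hX : X ≤ normalizer (T : Set G)) : ⁅X, zpowers a⁆ ≤ centralizer (T : Set G) := by
  refine commutator_le.mpr fun x hx b hb => ?_
  have h := OddLocal.shift_mem_centralizer (zpowers_le.mpr ha hb)
    ((normalizer (T : Set G)).inv_mem (hX hx))
  rw [inv_inv] at h
  rw [commutatorElement_def]
  simpa [mul_assoc] using h

theorem oq_le (q : ℕ) (H : Subgroup G) : oq q H ≤ H := map_subtype_le _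

theorem oq'_le (q : ℕ) (H : Subgroup G) : oq' q H ≤ H := map_subtype_le _

theorem oq_isPGroup (q : ℕ) (H : Subgroup G) : IsPGroup q (oq q H) :=
  (Core.isPGroup_pCore q H).map _

theorem le_normalizer_map_normal (N : Subgroup H) [N.Normal] :
    H ≤ normalizer (N.map H.subtype : Set G) := by
  have h : H.subtype.range ≤ normalizer ((N.map H.subtype : Subgroup G) : Set G) := by
    rw [MonoidHom.range_eq_map]
    refine le_trans (map_mono ?_) (le_normalizer_map H.subtype)
    rw [normalizer_eq_top]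
  rwa [range_subtype] at h

theorem le_normalizer_oq (q : ℕ) (H : Subgroup G) : H ≤ normalizer (oq q H : Set G) := by
  unfold oq Cfsg.pCoreOf
  exact le_normalizer_map_normal _

theorem le_normalizer_oq' (q : ℕ) (H : Subgroup G) : H ≤ normalizer (oq' q H : Set G) :=
  haveI : (Cfsg.pPrimeCore q H).Normal := Subgroup.sSup_normal _ fun _ h => h.1
  le_normalizer_map_normal _

theorem le_oq (hX : X ≤ H) (hq : IsPGroup q X) (hn : H ≤ normalizer (X : Set G)) : X ≤ oq q H := by
  haveI := (normal_subgroupOf_iff_le_normalizer hX).mpr hn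
  intro x hx
  exact ⟨⟨x, hX hx⟩, Core.le_pCore (N := X.subgroupOf H) hq.comap_subtype hx, rfl⟩

theorem le_oq' (hX : X ≤ H) (hq : (Nat.card X).Coprime q) (hn : H ≤ normalizer (X : Set G)) :
    X ≤ oq' q H := by
  haveI := (normal_subgroupOf_iff_le_normalizer hX).mpr hn
  intro x hx
  refine ⟨⟨x, hX hx⟩, Core.le_pPrimeCore (N := X.subgroupOf H) ?_ hx, rfl⟩
  rwa [Nat.card_congr (subgroupOfEquivOfLe hX).toEquiv]

theorem mem_normalizer_of_forall_le [Finite G] {g : G} (h : ∀ x ∈ X, g * x * g⁻¹ ∈ X) :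
    g ∈ normalizer (X : Set G) := LocalEvenB.mem_normalizer_of_forall h

section Fin

variable [Finite G]

theorem coprime_oq' (q : ℕ) (H : Subgroup G) : (Nat.card (oq' q H)).Coprime q := by
  rw [oq', card_map_of_injective H.subtype_injective]
  exact Core.coprime_card_pPrimeCore q H

theorem normalizer_le_normalizer_oq (q : ℕ) (H : Subgroup G) :
    normalizer (H : Set G) ≤ normalizer (oq q H : Set G) := by
  intro g hg
  refine mem_normalizer_of_forall_le fun x hx => ?_
  have hmap : (oq q H).map (MulAut.conj g).toMonoidHom ≤ oq q H := by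
    refine le_oq ?_ ((oq_isPGroup q H).map _) fun h hh => mem_normalizer_of_forall_le ?_
    · rintro _ ⟨y, hy, rfl⟩
      exact (mem_normalizer_iff.mp hg y).mp (oq_le q H hy)
    · rintro _ ⟨y, hy, rfl⟩
      refine ⟨(g⁻¹ * h * g) * y * (g⁻¹ * h * g)⁻¹, (mem_normalizer_iff.mp
        (le_normalizer_oq q H ((mem_normalizer_iff''.mp hg h).mp hh)) y).mp hy, ?_⟩
      simp [MulAut.conj_apply]; group
  exact hmap ⟨x, hx, rfl⟩

theorem normalizer_le_normalizer_oq' (q : ℕ) (H : Subgroup G) :
    normalizer (H : Set G) ≤ normalizer (oq' q H : Set G) := by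
  intro g hg
  refine mem_normalizer_of_forall_le fun x hx => ?_
  have hmap : (oq' q H).map (MulAut.conj g).toMonoidHom ≤ oq' q H := by
    refine le_oq' ?_ ((coprime_oq' q H).coprime_dvd_left ((oq' q H).card_map_dvd _))
      fun h hh => mem_normalizer_of_forall_le ?_
    · rintro _ ⟨y, hy, rfl⟩
      exact (mem_normalizer_iff.mp hg y).mp (oq'_le q H hy)
    · rintro _ ⟨y, hy, rfl⟩
      refine ⟨(g⁻¹ * h * g) * y * (g⁻¹ * h * g)⁻¹, (mem_normalizer_iff.mp
        (le_normalizer_oq' q H ((mem_normalizer_iff''.mp hg h).mp hh)) y).mp hy, ?_⟩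
      simp [MulAut.conj_apply]; group
  exact hmap ⟨x, hx, rfl⟩

theorem le_normalizer_oq_of {A : Subgroup G} (hA : A ≤ normalizer (H : Set G)) (q : ℕ) :
    A ≤ normalizer (oq q H : Set G) := hA.trans (normalizer_le_normalizer_oq q H)

theorem le_normalizer_oq'_of {A : Subgroup G} (hA : A ≤ normalizer (H : Set G)) (q : ℕ) :
    A ≤ normalizer (oq' q H : Set G) := hA.trans (normalizer_le_normalizer_oq' q H)

theorem inf_eq_bot_of_coprime (h : (Nat.card X).Coprime (Nat.card Y)) : X ⊓ Y = ⊥ :=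
  (disjoint_of_coprime_natCard h).eq_bot

omit [Finite G] in
theorem le_centralizer_of_normalizes (hXY : X ≤ normalizer (Y : Set G))
    (hYX : Y ≤ normalizer (X : Set G)) (hd : X ⊓ Y = ⊥) : X ≤ centralizer (Y : Set G) := by
  rw [← commutator_eq_bot_iff_le_centralizer, ← le_bot_iff, ← hd]
  exact le_inf (le_normalizer_iff_commutator_le_left.mp hYX)
    (le_normalizer_iff_commutator_le_right.mp hXY)

theorem coprime_pgroup [hq : Fact q.Prime] (hX : IsPGroup q X) {n : ℕ} (hn : ¬ q ∣ n) :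
    (Nat.card X).Coprime n := by
  obtain ⟨k, hk⟩ := hX.exists_card_eq
  rw [hk]
  exact Nat.Coprime.pow_left _ (hq.out.coprime_iff_not_dvd.mpr hn)

theorem coprime_pgroups {r : ℕ} [Fact q.Prime] [Fact r.Prime] (h : q ≠ r) (hX : IsPGroup q X)
    (hY : IsPGroup r Y) : (Nat.card X).Coprime (Nat.card Y) := by
  obtain ⟨k, hk⟩ := hY.exists_card_eq
  refine coprime_pgroup hX fun hd => h ?_
  rw [hk] at hd
  exact (Nat.prime_dvd_prime_iff_eq Fact.out Fact.out).mp ((Fact.out : q.Prime).dvd_of_dvd_pow hd)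

theorem oq_le_oq' {r : ℕ} (hq : q.Prime) (hr : r.Prime) (h : r ≠ q) : oq r H ≤ oq' q H := by
  haveI := Fact.mk hq
  haveI := Fact.mk hr
  refine le_oq' (oq_le r H) ?_ (le_normalizer_oq r H)
  refine coprime_pgroup (oq_isPGroup r H) fun hd => h ?_
  exact (Nat.prime_dvd_prime_iff_eq hr hq).mp hd

theorem inf_oq_oq' (hq : q.Prime) : oq q H ⊓ oq' q H = ⊥ := by
  haveI := Fact.mk hq
  refine inf_eq_bot_of_coprime (coprime_pgroup (oq_isPGroup q H) fun hd => ?_)
  exact hq.coprime_iff_not_dvd.mp (coprime_oq' q H).symm hd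

theorem oq'_le_centralizer_oq (hq : q.Prime) :
    oq' q H ≤ centralizer (oq q H : Set G) :=
  le_centralizer_of_normalizes ((oq'_le q H).trans (le_normalizer_oq q H))
    ((oq_le q H).trans (le_normalizer_oq' q H)) (by rw [inf_comm]; exact inf_oq_oq' hq)

/-- An element centralising every core of a solvable subgroup lies in its Fitting subgroup. -/
theorem mem_fitting_of_centralizes [Group.IsSolvable H] {x : H}
    (hx : ∀ s : ℕ, s.Prime → (x : G) ∈ centralizer (oq s H : Set G)) :
    x ∈ Cfsg.fittingSubgroup H := by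
  refine Components.centralizer_fitting_le_of_isSolvable ?_
  suffices h : Cfsg.fittingSubgroup H ≤ centralizer ({x} : Set H) from
    mem_centralizer_iff.mpr fun y hy => mem_centralizer_singleton_iff.mp (h hy)
  rw [Core.fittingSubgroup_eq_iSup_pCore]
  refine iSup_le fun s y hy => mem_centralizer_singleton_iff.mpr (Subtype.ext ?_)
  exact mem_centralizer_iff.mp (hx s s.2) _ ⟨y, hy, rfl⟩

/-- A `q`-subgroup centralising every core lies in `O_q`. -/
theorem le_oq_of_centralizes [hq : Fact q.Prime] [Group.IsSolvable H] (hX : X ≤ H)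
    (hXq : IsPGroup q X) (hc : ∀ s : ℕ, s.Prime → X ≤ centralizer (oq s H : Set G)) :
    X ≤ oq q H := by
  intro x hx
  set F := Cfsg.fittingSubgroup H
  have hxF : (⟨x, hX hx⟩ : H) ∈ F := mem_fitting_of_centralizes fun s hs => hc s hs hx
  haveI := Core.isNilpotent_fittingSubgroup H
  haveI : F.Normal := Core.normal_fittingSubgroup H
  obtain ⟨k, hk⟩ := hXq ⟨x, hx⟩
  have hxp : IsPGroup q (zpowers (⟨⟨x, hX hx⟩, hxF⟩ : F)) := by
    intro u
    obtain ⟨j, hj⟩ := mem_zpowers_iff.mp u.2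
    refine ⟨k, Subtype.ext ?_⟩
    have hk' : (⟨⟨x, hX hx⟩, hxF⟩ : F) ^ q ^ k = 1 :=
      Subtype.ext (Subtype.ext (congrArg (fun z : X => (z : G)) hk))
    show (u : F) ^ q ^ k = 1
    rw [← hj, ← zpow_natCast, ← zpow_mul, mul_comm, zpow_mul, zpow_natCast, hk', one_zpow]
  obtain ⟨P, hP⟩ := hxp.exists_le_sylow
  haveI : (P : Subgroup F).Normal := inferInstance
  exact ⟨⟨x, hX hx⟩, Core.map_subtype_pCore_le F
    ⟨_, Core.le_pCore P.isPGroup' (hP (mem_zpowers _)), rfl⟩, rfl⟩

/-- A coprime operator centralising every core centralises the group. -/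
theorem centralizes_of_centralizes_cores [Group.IsSolvable H] {a : G}
    (ha : a ∈ normalizer (H : Set G)) (hcop : (orderOf a).Coprime (Nat.card H))
    (hc : ∀ s : ℕ, s.Prime → a ∈ centralizer (oq s H : Set G)) :
    H ≤ centralizer ({a} : Set G) := by
  intro h hh
  have hwH : h⁻¹ * (a * h * a⁻¹) ∈ H :=
    mul_mem (inv_mem hh) ((mem_normalizer_iff.mp ha h).mp hh)
  have hwF : (⟨_, hwH⟩ : H) ∈ Cfsg.fittingSubgroup H := mem_fitting_of_centralizes fun s hs =>
    OddLocal.shift_mem_centralizer (hc s hs) (le_normalizer_oq s H hh)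
  have hF : Cfsg.fittingSubgroup H ≤ (centralizer ({a} : Set G)).comap H.subtype := by
    rw [Core.fittingSubgroup_eq_iSup_pCore]
    exact iSup_le fun s y hy => mem_centralizer_singleton_iff.mpr
      (mem_centralizer_iff.mp (hc s s.2) _ ⟨y, hy, rfl⟩)
  set w := h⁻¹ * (a * h * a⁻¹) with hw
  have hwa : Commute a w := (mem_centralizer_singleton_iff.mp (hF hwF)).symm
  have h1 : w = 1 := OddLocal.shift_eq_one (a := a) (h := h) (z := w)
    (by rw [hw, mul_inv_cancel_left]) hwa (pow_orderOf_eq_one a)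
    (congrArg Subtype.val (pow_card_eq_one' (G := H) (x := ⟨w, hwH⟩))) hcop
  rw [mem_centralizer_singleton_iff]
  rw [hw, inv_mul_eq_one, eq_mul_inv_iff_mul_eq] at h1
  exact h1

theorem exists_oq_ne_bot [Group.IsSolvable H] (hH : H ≠ ⊥) :
    ∃ s : ℕ, s.Prime ∧ oq s H ≠ ⊥ := by
  by_contra hcon
  push Not at hcon
  apply hH
  have hF : Cfsg.fittingSubgroup H = ⊥ := by
    rw [Core.fittingSubgroup_eq_iSup_pCore]
    refine iSup_eq_bot.mpr fun s => ?_
    exact (map_eq_bot_iff_of_injective _ H.subtype_injective).mp (hcon s s.2)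
  refine (eq_bot_iff_forall _).mpr fun x hx => ?_
  have h : (⟨x, hx⟩ : H) ∈ Cfsg.fittingSubgroup H := mem_fitting_of_centralizes fun s hs => by
    rw [hcon s hs]
    exact mem_centralizer_iff.mpr fun y hy => by rw [mem_bot.mp hy, one_mul, mul_one]
  rw [hF] at h
  exact congrArg Subtype.val (mem_bot.mp h)

/-- `O_{q'}(N_H(Q)) ≤ O_{q'}(H)` in a solvable group. -/
theorem le_oq'_of_local [hq : Fact q.Prime] [Group.IsSolvable H] {Q U : Subgroup G} (hQ : Q ≤ H)
    (hQq : IsPGroup q Q) (hU : U ≤ H) (hUc : (Nat.card U).Coprime q)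
    (hUQ : U ≤ normalizer (Q : Set G))
    (hn : H ⊓ normalizer (Q : Set G) ≤ normalizer (U : Set G)) : U ≤ oq' q H := by
  set P := Q.subgroupOf H
  set N := normalizer (P : Set H)
  have hPq : IsPGroup q P := hQq.comap_subtype
  have hc : centralizer (Cfsg.pCore q (H ⧸ Cfsg.pPrimeCore q H) : Set (H ⧸ Cfsg.pPrimeCore q H)) ≤
      Cfsg.pCore q (H ⧸ Cfsg.pPrimeCore q H) :=
    Core.centralizer_pCore_le_of_pPrimeCore_eq_bot (Core.pPrimeCore_quotient_pPrimeCore q H)
  have hloc := (PLocal.local_of_pConstrained hc hPq).1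
  have hUN : U.subgroupOf H ≤ N := by
    intro u hu
    have : N = (normalizer (Q : Set G)).comap H.subtype := (subgroupOf_normalizer_eq hQ).symm
    rw [this]
    exact hUQ hu
  haveI : ((U.subgroupOf H).subgroupOf N).Normal := by
    refine (normal_subgroupOf_iff_le_normalizer hUN).mpr fun n hn' => ?_
    have : N = (normalizer (Q : Set G)).comap H.subtype := (subgroupOf_normalizer_eq hQ).symm
    rw [this] at hn'
    refine mem_normalizer_iff.mpr fun u => ?_
    exact mem_normalizer_iff.mp (hn ⟨n.2, hn'⟩) (u : G)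
  have h1 : (U.subgroupOf H).subgroupOf N ≤ Cfsg.pPrimeCore q N := by
    refine Core.le_pPrimeCore ?_
    rwa [Nat.card_congr (subgroupOfEquivOfLe hUN).toEquiv,
      Nat.card_congr (subgroupOfEquivOfLe hU).toEquiv]
  intro u hu
  refine ⟨⟨u, hU hu⟩, ?_, rfl⟩
  have h2 : (⟨u, hU hu⟩ : H) ∈ (Cfsg.pPrimeCore q N).map N.subtype :=
    ⟨⟨⟨u, hU hu⟩, hUN hu⟩, h1 hu, rfl⟩
  rw [hloc] at h2
  exact h2.1

end Fin

end CfsgLib.Signalizer.Solv
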