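import Cfsg.Agent.Lib.Signalizer.Solvable.Colour

/-!
Owner: helper11. In a minimal counterexample to the signalizer functor theorem all values are maximal
members.
-/

set_option autoImplicit false
set_option maxHeartbeats 400000

namespace CfsgLib.Signalizer.Solv

open Subgroup
open scoped commutatorElement

variable {G : Type*} [Group G] [Finite G] {p : ℕ} [hp : Fact p.Prime] {A : Subgroup G}
  {θ : G → Subgroup G} {M N K X Y : Subgroup G} {a b : G} {q : ℕ}

local notation "Fam" => Cfsg.signalizerFamily p A θ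

theorem exists_weight (h : Hyp p A θ) (hns : NS p A θ a M) (hmu : Mu a M q) :
    ∃ m : Subgroup G, m ≤ A ∧ Nat.card m = p ^ 2 ∧
      ∃ D : Subgroup G, D ≠ ⊥ ∧ D ≤ oq q M ∧
        ∀ x ∈ m, x ≠ 1 → ∀ K ∈ Fam, θ x ≤ K → D ≤ oq q K := by
  have hQ := mem_oq hns.top.1 q
  obtain ⟨m, hmA, hmc, -, hD⟩ :=
    exists_weight_line h.elem h.card (fam_not_dvd hQ) (fam_norm hQ) hns.mem hmu.2
  have hAD : A ≤ normalizer ((oq q M ⊓ centralizer (m : Set G) : Subgroup G) : Set G) :=
    le_normalizer_inf (fam_norm hQ) (le_normalizer_centralizer_of_le h.elem hmA)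
  refine ⟨m, hmA, hmc, _, comm_ne_bot hD, (comm_le_self (hAD hns.mem)).trans inf_le_left,
    fun x hx hx1 K hK hxK => ?_⟩
  have hle : oq q M ⊓ centralizer (m : Set G) ≤ oq q M ⊓ K :=
    le_inf inf_le_left ((inf_le_inf_left _ (centralizer_le (Set.singleton_subset_iff.mpr hx))).trans
      ((fam_fix hQ (hmA hx) hx1).trans hxK))
  exact (commutator_mono hle le_rfl).trans
    (star h.toSetup hns.top.1 hK hns.mem hns.ne hns.le hmu.1)

theorem exists_partner (h : Hyp p A θ) (hns : NS p A θ a M) (hq : q.Prime) {m : Subgroup G}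
    (hmA : m ≤ A) (hmc : Nat.card m = p ^ 2)
    {D : Subgroup G} (hD1 : D ≠ ⊥) (hw : ∀ x ∈ m, x ≠ 1 → ∀ K ∈ Fam, θ x ≤ K → D ≤ oq q K) :
    ∃ b ∈ m, ∃ N, NS p A θ b N ∧ N ≠ M := by
  obtain ⟨x, hx, hx1, -, hxM⟩ := two_outside h hns.top hmA hmc hns.mem hns.ne
  obtain ⟨y, hy, hy1, hyx, hyM⟩ := two_outside h hns.top hmA hmc (hmA hx) hx1
  by_cases hc : ∃ b ∈ m, b ≠ 1 ∧ ¬ θ b ≤ M ∧ ¬ IsTop p A θ (θ b)
  · obtain ⟨b, hb, hb1, hbM, hbT⟩ := hc
    obtain ⟨N, hN⟩ := (singleton_or_colour h (hmA hb) hb1).resolve_left hbT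
    exact ⟨b, hb, N, hN, fun e => hbM (e ▸ hN.le)⟩
  push Not at hc
  exfalso
  have hTx := hc x hx hx1 hxM
  have hTy := hc y hy hy1 hyM
  exact singleton_inter_false h (hmA hx) hx1 (hmA hy) hy1 hTx hTy hyx hq (ne_bot_of_le_ne_bot hD1
    (le_inf (hw x hx hx1 _ hTx.1 le_rfl) (hw y hy hy1 _ hTy.1 le_rfl)))

/-- No colour has cores for all primes, more than one. -/
theorem not_full_mixed (h : Hyp p A θ) (hns : NS p A θ a M) (hfull : Full A θ M) (hmu : Mu a M q)
    {u : ℕ} (hu : u.Prime) (huq : u ≠ q) (huM : oq u M ≠ ⊥) : False := by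
  have hq := hmu.1
  haveI := Fact.mk hq
  haveI := Fact.mk hu
  have hpiq : InPi A θ q := inPi_of_oq_ne_bot h.toSetup hns.top.1 hq hmu.ne_bot
  have hpiu : InPi A θ u := inPi_of_oq_ne_bot h.toSetup hns.top.1 hu huM
  obtain ⟨m, hmA, hmc, D, hD1, hDQ, hw⟩ := exists_weight h hns hmu
  obtain ⟨b, hb, N, hN, hNM⟩ := exists_partner h hns hq hmA hmc hD1 hw
  set X := oq q M ⊓ oq q N with hXdef
  have hX1 : X ≠ ⊥ := ne_bot_of_le_ne_bot hD1 (le_inf hDQ (hw b hb hN.ne N hN.top.1 hN.le))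
  have hXA : A ≤ normalizer (X : Set G) := le_normalizer_inf (le_normalizer_oq_of (fam_norm hns.top.1) q)
    (le_normalizer_oq_of (fam_norm hN.top.1) q)
  have hgood : ∀ Y ∈ Fam, Y ≤ normalizer (X : Set G) → Y ≤ M := fun Y hY hYX =>
    good_le h hns.top hfull hq hu huq huM hX1 inf_le_left hXA hY hYX
  -- two maximal members whose cores for `r` meet, both with all primes, are equal
  have htwo : ∀ {K : Subgroup G}, IsTop p A θ K → Full A θ K → ∀ r : ℕ, r.Prime →
      oq r M ⊓ oq r K ≠ ⊥ → ∀ w : ℕ, w.Prime → w ≠ r → InPi A θ w → K = M := by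
    intro K hK hKf r hr hne w hw' hwr hpiw
    have hA' : A ≤ normalizer ((oq r M ⊓ oq r K : Subgroup G) : Set G) := le_normalizer_inf
      (le_normalizer_oq_of (fam_norm hns.top.1) r) (le_normalizer_oq_of (fam_norm hK.1) r)
    obtain ⟨L, hL, hLX⟩ := exists_local_top h
      (family_of_le (mem_oq hns.top.1 r) inf_le_left hA') hne
    rw [← good h hK hKf hr hw' hwr (hKf w hpiw) _ hne inf_le_right hA' L hL hLX]
    exact good h hns.top hfull hr hw' hwr (hfull w hpiw) _ hne inf_le_left hA' L hL hLX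
  have hNnf : ¬ Full A θ N := fun hNf => hNM (htwo hN.top hNf q hq hX1 u hu huq hpiu)
  obtain ⟨r₀, hr₀, hr₀N⟩ : ∃ r, InPi A θ r ∧ oq r N = ⊥ := by
    unfold Full at hNnf
    push Not at hNnf
    exact hNnf
  have hNq : oq q N ≠ ⊥ := ne_bot_of_le_ne_bot hX1 inf_le_right
  have hFN : ∀ v : ℕ, v.Prime → v ≠ q → oq v N ≤ M := fun v hv hvq => hgood _ (mem_oq hN.top.1 v)
    ((oq_commute hv hq hvq).trans ((centralizer_le (SetLike.coe_subset_coe.mpr inf_le_right)).trans
      (centralizer_le_normalizer _)))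
  have hCM := hns.inf_le
  have hmeet : ∀ v : ℕ, v.Prime → v ≠ q → oq v M ⊓ N = ⊥ := by
    intro v hv hvq
    by_contra hU
    haveI := Fact.mk hv
    haveI := hN.top.1.1
    have hvM : oq v M ≠ ⊥ := ne_bot_of_le_ne_bot hU inf_le_left
    have hUA : A ≤ normalizer ((oq v M ⊓ N : Subgroup G) : Set G) :=
      le_normalizer_inf (le_normalizer_oq_of (fam_norm hns.top.1) v) (fam_norm hN.top.1)
    have hUle : oq v M ⊓ N ≤ oq' q N := by
      refine le_oq'_of_local (inf_le_right.trans (oq_le q N))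
        ((oq_isPGroup q M).to_le inf_le_left) inf_le_right
        (coprime_pgroup ((oq_isPGroup v M).to_le inf_le_left)
          fun hd => hvq ((Nat.prime_dvd_prime_iff_eq hv hq).mp hd))
        (inf_le_left.trans ((oq_commute hv hq hvq).trans
          ((centralizer_le (SetLike.coe_subset_coe.mpr inf_le_left)).trans
            (centralizer_le_normalizer _)))) ?_
      intro x hx
      exact inf_normalizer_le_normalizer_inf ⟨le_normalizer_oq v M
        (hgood _ (mem_inf hN.top.1 (hXA.trans le_normalizer)) inf_le_right hx), le_normalizer hx.1⟩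
    refine hNM (hN.eq_of_cores h hns.top fun t ht => ?_).symm
    by_cases htq : t = q
    · subst htq
      exact good_le h hns.top hfull hv ht (Ne.symm hvq) hmu.ne_bot hU inf_le_left hUA
        (mem_oq hN.top.1 t) ((le_centralizer_iff.mp (hUle.trans (oq'_le_centralizer_oq ht))).trans
          (centralizer_le_normalizer _))
    · exact hFN t ht htq
  have hpure : ∀ v : ℕ, v.Prime → v ≠ q → oq v N = ⊥ := by
    intro v hv hvq
    by_contra hvN
    have hle : oq v M ≤ N := hN.rule h (π := {s | oq s N ≠ ⊥}) hr₀ (fun hh => hh hr₀N)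
      (fun s _ hs => hs) (mem_oq hns.top.1 v) (isPiSubgroup_oq hv fun _ => hvN)
      (hCM.trans (le_normalizer_oq v M))
    have h0 := hmeet v hv hvq
    rw [inf_eq_left.mpr hle] at h0
    exact hfull v (inPi_of_oq_ne_bot h.toSetup hN.top.1 hv hvN) h0
  have honly : ∀ w : ℕ, InPi A θ w → w = q ∨ w = u := by
    intro w hw'
    by_contra hcon
    push Not at hcon
    have hle : oq u M ≤ N := hN.rule h (π := {s | s = q ∨ s = u}) hw'
      (fun hh => hh.elim hcon.1 hcon.2)
      (fun s hs hsN => Or.inl (by_contra fun hsq => hsN (hpure s hs hsq))) (mem_oq hns.top.1 u)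
      (isPiSubgroup_oq hu fun _ => Or.inr rfl) (hCM.trans (le_normalizer_oq u M))
    have h0 := hmeet u hu huq
    rw [inf_eq_left.mpr hle] at h0
    exact huM h0
  have hN' : oq' q N = ⊥ := pure_of_unique hN.top.1.1 hq hpure
  -- outside `M` the cores are those of `N`
  have hout : ∀ x ∈ m, x ≠ 1 → ¬ θ x ≤ M → θ x ≤ N := by
    intro x hx hx1 hxM
    obtain ⟨K, hK, hxK⟩ := exists_top (theta_mem_family h.functor (hmA hx) hx1)
    have hKM : K ≠ M := fun e => hxM (e ▸ hxK)
    have hX' : oq q M ⊓ oq q K ≠ ⊥ := ne_bot_of_le_ne_bot hD1 (le_inf hDQ (hw x hx hx1 K hK.1 hxK))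
    have hK' : oq' q K = ⊥ := by
      refine pure_of_unique hK.1.1 hq fun s hs hsq => ?_
      by_contra hsK
      have hsu : s = u := (honly s (inPi_of_oq_ne_bot h.toSetup hK.1 hs hsK)).resolve_left hsq
      refine hKM (htwo hK (fun w hw' => ?_) q hq hX' u hu huq hpiu)
      rcases honly w hw' with rfl | rfl
      · exact ne_bot_of_le_ne_bot hX' inf_le_right
      · exact hsu ▸ hsK
    exact (pure_eq h hN.top hK hq hN' hK' hN.inf_le) ▸ hxK
  -- the core `R` of `M` for the other prime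
  set R := oq u M with hR
  have hRf := mem_oq hns.top.1 u
  obtain ⟨s, hs, hs1, hsM, hsR⟩ : ∃ s ∈ m, s ≠ 1 ∧ θ s ≤ M ∧
      ¬ R ≤ centralizer ({s} : Set G) := by
    obtain ⟨x, hx, hx1, -, hxN⟩ := two_outside h hN.top hmA hmc hN.mem hN.ne
    obtain ⟨y, hy, hy1, hyx, hyN⟩ := two_outside h hN.top hmA hmc (hmA hx) hx1
    by_contra hcon
    push Not at hcon
    have hxM : θ x ≤ M := by_contra fun e => hxN (hout x hx hx1 e)
    have hyM : θ y ≤ M := by_contra fun e => hyN (hout y hy hy1 e)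
    have hc : R ≤ centralizer (m : Set G) := line_eq h.elem hmA hmc hx hx1 hy hyx ▸
      le_centralizer_pair (hcon x hx hx1 hxM) (hcon y hy hy1 hyM)
    have hRN : R ≤ N := (le_theta_of_centralizes hRf hN.mem hN.ne
      (hc.trans (centralizer_le (Set.singleton_subset_iff.mpr hb)))).trans hN.le
    have h0 := hmeet u hu huq
    rw [inf_eq_left.mpr hRN] at h0
    exact huM h0
  obtain ⟨k, hkA, hkc, -, hRk⟩ :=
    exists_weight_line h.elem h.card (fam_not_dvd hRf) (fam_norm hRf) (hmA hs) hsR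
  have hEN : ⁅oq q N, zpowers b⁆ ≤ M := by
    have hQN := mem_oq hN.top.1 q
    refine comm_le_of_lines h.elem h.card hQN.1 (fam_not_dvd hQN) (fam_norm hQN) hN.mem hN.ne
      fun k' hk'A hk'c _ => ?_
    obtain ⟨x, ⟨hxk, hxk'⟩, hx1⟩ := lines_meet h.elem h.card hkA hk'A hkc hk'c
    have hle : oq q N ⊓ centralizer (k' : Set G) ≤ θ x :=
      (inf_le_inf_left _ (centralizer_le (Set.singleton_subset_iff.mpr hxk'))).trans
        (fam_fix hQN (hk'A hxk') hx1)
    by_cases hxM : θ x ≤ M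
    · exact (commutator_mono (hle.trans hxM) le_rfl).trans (comm_le_self (fam_norm hns.top.1 hN.mem))
    obtain ⟨K, hK, hxK⟩ := exists_top (theta_mem_family h.functor (hkA hxk) hx1)
    have hKM : K ≠ M := fun e => hxM (e ▸ hxK)
    have hAR : A ≤ normalizer ((R ⊓ centralizer (k : Set G) : Subgroup G) : Set G) :=
      le_normalizer_inf (fam_norm hRf) (le_normalizer_centralizer_of_le h.elem hkA)
    have hRK : oq u M ⊓ oq u K ≠ ⊥ := by
      refine ne_bot_of_le_ne_bot (comm_ne_bot hRk) (le_inf ?_ ?_)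
      · exact (comm_le_self (hAR (hmA hs))).trans inf_le_left
      · exact (commutator_mono (le_inf inf_le_left ((inf_le_inf_left _
          (centralizer_le (Set.singleton_subset_iff.mpr hxk))).trans
          ((fam_fix hRf (hkA hxk) hx1).trans hxK))) le_rfl).trans
          (star h.toSetup hns.top.1 hK.1 (hmA hs) hs1 hsM hu)
    have hKq : oq q K = ⊥ := by
      by_contra hne
      refine hKM (htwo hK (fun w hw' => ?_) u hu hRK q hq (Ne.symm huq) hpiq)
      rcases honly w hw' with rfl | rfl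
      · exact hne
      · exact ne_bot_of_le_ne_bot hRK inf_le_right
    refine (commutator_mono (le_inf inf_le_left (hle.trans hxK)) le_rfl).trans
      ((star h.toSetup hN.top.1 hK.1 hN.mem hN.ne hN.le hq).trans ?_)
    rw [hKq]
    exact bot_le
  have hmuN : Mu b N q := by
    obtain ⟨v, hv⟩ := hN.nonempty
    by_cases hvq : v = q
    · exact hvq ▸ hv
    · exact absurd (hpure v hv.1 hvq) hv.ne_bot
  have hEQ : ⁅oq q N, zpowers b⁆ ≤ oq q M := by
    rw [← comm_idem h.toSetup (mem_oq hN.top.1 q) hN.mem]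
    exact (commutator_mono (le_inf (comm_le_self (le_normalizer_oq_of (fam_norm hN.top.1) q hN.mem))
      hEN) le_rfl).trans (star h.toSetup hN.top.1 hns.top.1 hN.mem hN.ne hN.le hq)
  have hRN : R ≤ N := hN.le_of_normalizes h hmuN hRf
    ((oq_commute hu hq huq).trans ((centralizer_le (SetLike.coe_subset_coe.mpr hEQ)).trans
      (centralizer_le_normalizer _)))
  have h0 := hmeet u hu huq
  rw [inf_eq_left.mpr hRN] at h0
  exact huM h0

/-- No colour has cores for all primes. -/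
theorem not_full (h : Hyp p A θ) (hns : NS p A θ a M) : ¬ Full A θ M := by
  intro hfull
  obtain ⟨q, hmu⟩ := hns.nonempty
  by_cases hmix : ∃ u : ℕ, u.Prime ∧ u ≠ q ∧ oq u M ≠ ⊥
  · obtain ⟨u, hu, huq, huM⟩ := hmix
    exact not_full_mixed h hns hfull hmu hu huq huM
  push Not at hmix
  have hpi : ∀ w, InPi A θ w → w = q := fun w hw => by_contra fun hwq =>
    hfull w hw (hmix w hw.1 hwq)
  obtain ⟨x, hx, hx1, hxM⟩ := exists_theta_not_le h hns.top.1
  obtain ⟨K, hK, hxK⟩ := exists_top (theta_mem_family h.functor hx hx1)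
  have hK' : oq' q K = ⊥ := pure_of_unique hK.1.1 hmu.1 fun s hs hsq => by_contra fun hne =>
    hsq (hpi s (inPi_of_oq_ne_bot h.toSetup hK.1 hs hne))
  exact hxM (pure_eq h hns.top hK hmu.1 (pure_of_unique hns.top.1.1 hmu.1 hmix) hK' hns.inf_le ▸ hxK)

/-- All values are maximal members. -/
theorem all_tops (h : Hyp p A θ) {a : G} (ha : a ∈ A) (ha1 : a ≠ 1) : IsTop p A θ (θ a) := by
  refine (singleton_or_colour h ha ha1).resolve_right fun ⟨M, hns⟩ => ?_
  obtain ⟨q, hmu⟩ := hns.nonempty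
  have hq := hmu.1
  obtain ⟨m, hmA, hmc, D, hD1, hDQ, hw⟩ := exists_weight h hns hmu
  obtain ⟨b, hb, N, hN, hNM⟩ := exists_partner h hns hq hmA hmc hD1 hw
  have hrule : ∀ {c : G} {L : Subgroup G}, NS p A θ c L → oq q L ≠ ⊥ → ∀ {L' : Subgroup G},
      L' ∈ Fam → Cfsg.signalizerInf A θ ≤ L' → oq q L' ≤ L := by
    intro c L hL hqL L' hL' hC'
    obtain ⟨r, hr, hrL⟩ : ∃ r, InPi A θ r ∧ oq r L = ⊥ := by
      have := not_full h hL
      unfold Full at this
      push Not at this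
      exact this
    exact hL.rule h (π := {s | oq s L ≠ ⊥}) hr (fun hh => hh hrL) (fun s _ hs => hs) (mem_oq hL' q)
      (isPiSubgroup_oq hq fun _ => hqL) (hC'.trans (le_normalizer_oq q L'))
  have hNq : oq q N ≠ ⊥ := ne_bot_of_le_ne_bot hD1 (hw b hb hN.ne N hN.top.1 hN.le)
  have hQN : oq q M ≤ N := hrule hN hNq hns.top.1 hns.inf_le
  have hNQ : oq q N ≤ M := hrule hns hmu.ne_bot hN.top.1 hN.inf_le
  refine hNM (hN.eq_of_cores h hns.top fun y hy => ?_).symm
  by_cases hyq : y = q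
  · exact hyq ▸ hNQ
  · exact hns.le_of_normalizes h hmu (mem_oq hN.top.1 y)
      ((oq_commute hy hq hyq).trans ((centralizer_le (SetLike.coe_subset_coe.mpr
        (hns.comm_le_oq h hN.top.1 hq hQN))).trans (centralizer_le_normalizer _)))

end CfsgLib.Signalizer.Solv
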