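import Cfsg.Agent.Lib.Signalizer.Solvable.Bender
import Cfsg.Agent.Lib.LocalEvenB.CharP

/-!
Owner: helper11. Colours: maximal members containing a value, chosen with as many moved cores as
possible; and the two criteria against values which are themselves maximal members.
-/

set_option autoImplicit false
set_option maxHeartbeats 400000

namespace CfsgLib.Signalizer.Solv

open Subgroup
open scoped commutatorElement

variable {G : Type*} [Group G] [Finite G] {p : ℕ} [hp : Fact p.Prime] {A : Subgroup G}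
  {θ : G → Subgroup G} {M K X Y : Subgroup G} {a b : G} {q : ℕ}

local notation "Fam" => Cfsg.signalizerFamily p A θ

section Geometry

theorem exists_not_mem_line (hS : Setup p A θ) {B : Subgroup G} (hB : Nat.card B = p ^ 2) :
    ∃ c ∈ A, c ∉ B := by
  by_contra hcon
  push Not at hcon
  have := card_le_of_le (show A ≤ B from hcon)
  rw [hS.card, hB] at this
  exact absurd ((Nat.pow_le_pow_iff_right hp.out.one_lt).mp this) (by norm_num)

theorem exists_line_mem (hS : Setup p A θ) {g : G} (hg : g ∈ A) (hg1 : g ≠ 1) :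
    ∃ B : Subgroup G, B ≤ A ∧ Nat.card B = p ^ 2 ∧ g ∈ B := by
  obtain ⟨a, ha, hag⟩ := exists_not_mem_zpowers hS.elem le_rfl (card_A_ge hS) g hg
  exact ⟨_, sup_le (zpowers_le.mpr hg) (zpowers_le.mpr ha), card_pair hS.elem hg hg1 ha hag,
    mem_sup_left (mem_zpowers g)⟩

theorem exists_line_not_mem (hS : Setup p A θ) {g : G} (hg : g ∈ A) (hg1 : g ≠ 1) :
    ∃ B : Subgroup G, B ≤ A ∧ Nat.card B = p ^ 2 ∧ g ∉ B := by
  obtain ⟨a, ha, hag⟩ := exists_not_mem_zpowers hS.elem le_rfl (card_A_ge hS) g hg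
  have hB := card_pair hS.elem hg hg1 ha hag
  have hBA : zpowers g ⊔ zpowers a ≤ A := sup_le (zpowers_le.mpr hg) (zpowers_le.mpr ha)
  obtain ⟨c, hc, hcB⟩ := exists_not_mem_line hS hB
  have ha1 : a ≠ 1 := fun e => hag (e ▸ one_mem _)
  have hca : c ∉ zpowers a := fun h => hcB (mem_sup_right h)
  have hk := card_pair hS.elem ha ha1 hc hca
  have hkA : zpowers a ⊔ zpowers c ≤ A := sup_le (zpowers_le.mpr ha) (zpowers_le.mpr hc)
  refine ⟨_, hkA, hk, fun hgk => hcB ?_⟩
  rw [line_eq hS.elem hkA hk hgk hg1 (mem_sup_left (mem_zpowers a)) hag]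
  exact mem_sup_right (mem_zpowers c)

theorem not_mem_zpowers_symm (hS : Setup p A θ) {x y : G} (hx : x ∈ A) (hy1 : y ≠ 1)
    (hxy : x ∉ zpowers y) (hy : y ∈ A) : y ∉ zpowers x := fun h =>
  hxy ((zpowers_eq_of_mem hS.elem hx h hy1).ge (mem_zpowers x))

end Geometry

omit hp in
theorem inf_centralizer_le_normalizer_comm (hX : Y ≤ normalizer (X : Set G)) (a : G) :
    Y ⊓ centralizer ({a} : Set G) ≤ normalizer ((⁅X, zpowers a⁆ : Subgroup G) : Set G) := by
  intro x hx
  refine mem_normalizer_of_forall_le fun y hy => ?_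
  have hxa : x ∈ normalizer (zpowers a : Set G) :=
    centralizer_le_normalizer _ (centralizer_zpowers a ▸ hx.2)
  have hm : (⁅X, zpowers a⁆).map (MulAut.conj x).toMonoidHom = ⁅X, zpowers a⁆ := by
    rw [map_commutator, LocalEvenB.map_conj_eq_self_iff_mem_normalizer.mpr (hX hx.1),
      LocalEvenB.map_conj_eq_self_iff_mem_normalizer.mpr hxa]
  exact hm ▸ mem_map_of_mem (MulAut.conj x).toMonoidHom hy

theorem theta_le_centralizer (hS : Setup p A θ) (ha : a ∈ A) (ha1 : a ≠ 1) :
    θ a ≤ centralizer ({a} : Set G) := hS.functor.1.1 a ha ha1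

theorem le_theta_of_centralizes (hX : X ∈ Fam) (ha : a ∈ A) (ha1 : a ≠ 1)
    (hc : X ≤ centralizer ({a} : Set G)) : X ≤ θ a :=
  (le_inf le_rfl hc).trans (fam_fix hX ha ha1)

/-- The cores moved by an operator. -/
def Mu (a : G) (M : Subgroup G) (q : ℕ) : Prop :=
  q.Prime ∧ ¬ oq q M ≤ centralizer ({a} : Set G)

omit hp in
theorem Mu.ne_bot (h : Mu a M q) : oq q M ≠ ⊥ := fun e => h.2 (e ▸ bot_le)

/-- A colour with a moved core. -/
structure NS (p : ℕ) (A : Subgroup G) (θ : G → Subgroup G) (a : G) (M : Subgroup G) : Prop where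
  mem : a ∈ A
  ne : a ≠ 1
  top : IsTop p A θ M
  le : θ a ≤ M
  max : ∀ K : Subgroup G, IsTop p A θ K → θ a ≤ K → (∀ q, Mu a M q → Mu a K q) →
    ∀ q, Mu a K q → Mu a M q
  nonempty : ∃ q, Mu a M q

theorem exists_mu_of_not_le (hS : Setup p A θ) (hK : K ∈ Fam) (ha : a ∈ A)
    (h : ¬ K ≤ centralizer ({a} : Set G)) : ∃ q, Mu a K q := by
  by_contra hcon
  push Not at hcon
  haveI := hK.1
  refine h (centralizes_of_centralizes_cores (fam_norm hK ha) (coprime_orderOf hS hK ha) fun s hs => ?_)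
  have hs' : oq s K ≤ centralizer ({a} : Set G) := by
    by_contra hne
    exact hcon s ⟨hs, hne⟩
  exact mem_centralizer_iff.mpr fun y hy => mem_centralizer_singleton_iff.mp (hs' hy)

/-- A value is a maximal member, or it has a colour with a moved core. -/
theorem singleton_or_colour (h : Hyp p A θ) (ha : a ∈ A) (ha1 : a ≠ 1) :
    IsTop p A θ (θ a) ∨ ∃ M, NS p A θ a M := by
  refine or_iff_not_imp_left.mpr fun hnot => ?_
  obtain ⟨K, hK, haK⟩ := exists_top (theta_mem_family h.functor ha ha1)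
  obtain ⟨q, hq⟩ := exists_mu_of_not_le h.toSetup hK.1 ha fun hc => hnot
    ((le_antisymm haK (le_theta_of_centralizes hK.1 ha ha1 hc)) ▸ hK)
  obtain ⟨μ, hle, ⟨M, hM, haM, rfl⟩, hmax⟩ := Set.Finite.exists_le_maximal
    (s := {S : Set ℕ | ∃ M, IsTop p A θ M ∧ θ a ≤ M ∧ S = {r | Mu a M r}})
    (((Set.toFinite (Set.univ : Set (Subgroup G))).image fun M => {r | Mu a M r}).subset
      fun S ⟨M, _, _, hS⟩ => ⟨M, Set.mem_univ _, hS.symm⟩)
    (a := {r | Mu a K r}) ⟨K, hK, haK, rfl⟩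
  exact ⟨M, ⟨ha, ha1, hM, haM, fun L hL haL hsub r hr => hmax ⟨L, hL, haL, rfl⟩ hsub hr,
    q, hle hq⟩⟩

theorem NS.ne_theta (h : Hyp p A θ) (hns : NS p A θ a M) : ¬ M ≤ θ a := fun hle => by
  obtain ⟨q, hq⟩ := hns.nonempty
  exact hq.2 ((oq_le q M).trans (hle.trans (theta_le_centralizer h.toSetup hns.mem hns.ne)))

theorem NS.inf_le (hns : NS p A θ a M) : Cfsg.signalizerInf A θ ≤ M :=
  inf_le_of_theta_le hns.mem hns.ne hns.le

theorem mem_commQ (hS : Setup p A θ) (hM : M ∈ Fam) (ha : a ∈ A) (q : ℕ) :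
    ⁅oq q M, zpowers a⁆ ∈ Fam := mem_comm hS (mem_oq hM q) ha

theorem NS.comm_le_oq (h : Hyp p A θ) (hns : NS p A θ a M) (hK : K ∈ Fam) (hq : q.Prime)
    (hle : oq q M ≤ K) : ⁅oq q M, zpowers a⁆ ≤ oq q K :=
  (commutator_mono (le_inf le_rfl hle) le_rfl).trans
    (star h.toSetup hns.top.1 hK hns.mem hns.ne hns.le hq)

theorem NS.mu_mono (h : Hyp p A θ) (hns : NS p A θ a M) (hK : K ∈ Fam) (hle : oq q M ≤ K)
    (hmu : Mu a M q) : Mu a K q := by
  refine ⟨hmu.1, fun hc => comm_ne_bot hmu.2 ?_⟩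
  rw [← comm_idem h.toSetup (mem_oq hns.top.1 q) hns.mem, comm_eq_bot_iff]
  exact (hns.comm_le_oq h hK hmu.1 hle).trans hc

/-- The intersection of a foreign core with a colour is trivial. -/
theorem foreign_inf_eq_bot (hM : M ∈ Fam) (hF : ∀ r : ℕ, r.Prime → oq r M ≤ K) {t : ℕ}
    (ht : t.Prime) (htM : oq t M = ⊥) : oq t K ⊓ M = ⊥ := by
  haveI := Fact.mk ht
  haveI := hM.1
  rw [← le_bot_iff, ← htM]
  refine le_oq_of_centralizes inf_le_right ((oq_isPGroup t K).to_le inf_le_left) fun s hs => ?_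
  by_cases hst : s = t
  · subst hst
    rw [htM]
    exact fun x _ => mem_centralizer_iff.mpr fun y hy => by rw [mem_bot.mp hy, one_mul, mul_one]
  haveI := Fact.mk hs
  refine le_centralizer_of_normalizes (inf_le_right.trans (le_normalizer_oq s M))
    (le_trans ?_ inf_normalizer_le_normalizer_inf) (inf_eq_bot_of_coprime
      (coprime_pgroups (Ne.symm hst) ((oq_isPGroup t K).to_le inf_le_left) (oq_isPGroup s M)))
  exact le_inf ((hF s hs).trans (le_normalizer_oq t K)) ((oq_le s M).trans le_normalizer)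

/-- The fundamental uniqueness property of a colour. -/
theorem NS.e_unique (h : Hyp p A θ) (hns : NS p A θ a M) (hmu : Mu a M q) (hK : IsTop p A θ K)
    (hKE : ∀ Y ∈ Fam, Y ≤ normalizer ((⁅oq q M, zpowers a⁆ : Subgroup G) : Set G) → Y ≤ K) : K = M := by
  have haK : θ a ≤ K := by
    refine hKE _ (theta_mem_family h.functor hns.mem hns.ne) ?_
    exact (le_inf le_rfl (theta_le_centralizer h.toSetup hns.mem hns.ne)).trans
      (inf_centralizer_le_normalizer_comm (hns.le.trans (le_normalizer_oq q M)) a)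
  have hF : ∀ r : ℕ, r.Prime → oq r M ≤ K := by
    intro r hr
    refine hKE _ (mem_oq hns.top.1 r) ?_
    by_cases hrq : r = q
    · subst hrq
      exact normalizer_commutator_ge_left _ _
    · exact (oq_commute hr hmu.1 hrq).trans
        ((centralizer_le (SetLike.coe_subset_coe.mpr
          (comm_le_self (le_normalizer_oq_of (fam_norm hns.top.1) q hns.mem)))).trans
          (centralizer_le_normalizer _))
  refine eq_of_cores_le h hns.top hK hns.inf_le hF fun t ht htK htM => ?_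
  have hfix : oq t K ⊓ centralizer ({a} : Set G) = ⊥ := by
    rw [← le_bot_iff, ← foreign_inf_eq_bot hns.top.1 hF ht htM]
    exact le_inf inf_le_left ((fam_fix (mem_oq hK.1 t) hns.mem hns.ne).trans hns.le)
  have hmuK : Mu a K t := ⟨ht, fun hc => htK (by rwa [inf_eq_left.mpr hc] at hfix)⟩
  exact (hns.max K hK haK (fun r hr => hns.mu_mono h hK.1 (hF r hr.1) hr) t hmuK).ne_bot htM

theorem NS.le_of_normalizes (h : Hyp p A θ) (hns : NS p A θ a M) (hmu : Mu a M q) (hY : Y ∈ Fam)
    (hYE : Y ≤ normalizer ((⁅oq q M, zpowers a⁆ : Subgroup G) : Set G)) : Y ≤ M := by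
  obtain ⟨L, hL, hLE⟩ := exists_local_top h (mem_commQ h.toSetup hns.top.1 hns.mem q)
    (comm_ne_bot hmu.2)
  exact hns.e_unique h hmu hL hLE ▸ hLE Y hY hYE

/-- A maximal member containing the cores of a colour is that colour. -/
theorem NS.eq_of_cores (h : Hyp p A θ) (hns : NS p A θ a M) (hK : IsTop p A θ K)
    (hF : ∀ r : ℕ, r.Prime → oq r M ≤ K) : K = M := by
  obtain ⟨q, hmu⟩ := hns.nonempty
  refine eq_of_cores_le h hns.top hK hns.inf_le hF fun t ht htK htM => htK ?_
  have htq : t ≠ q := fun e => hmu.ne_bot (e ▸ htM)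
  have hle : oq t K ≤ M := hns.le_of_normalizes h hmu (mem_oq hK.1 t)
    ((oq_commute ht hmu.1 htq).trans ((centralizer_le (SetLike.coe_subset_coe.mpr
      (hns.comm_le_oq h hK.1 hmu.1 (hF q hmu.1)))).trans (centralizer_le_normalizer _)))
  have h0 := foreign_inf_eq_bot hns.top.1 hF ht htM
  rwa [inf_eq_left.mpr hle] at h0

omit hp in
theorem isPiSubgroup_oq {π : Set ℕ} {s : ℕ} (hs : s.Prime) (h : oq s M ≠ ⊥ → s ∈ π) :
    Cfsg.IsPiSubgroup π (oq s M) := by
  haveI := Fact.mk hs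
  intro r hr hd
  obtain ⟨k, hk⟩ := (oq_isPGroup s M).exists_card_eq
  rw [hk] at hd
  obtain rfl := (Nat.prime_dvd_prime_iff_eq hr hs).mp (hr.dvd_of_dvd_pow hd)
  refine h fun e => ?_
  rw [e, card_bot] at hk
  rw [← hk] at hd
  exact hr.not_dvd_one hd

/-- The rule: members with few primes normalised by the fixed part lie in the colour. -/
theorem NS.rule (h : Hyp p A θ) (hns : NS p A θ a M) {π : Set ℕ} {r : ℕ} (hr : InPi A θ r)
    (hrπ : r ∉ π) (hπ : ∀ s : ℕ, s.Prime → oq s M ≠ ⊥ → s ∈ π) (hY : Y ∈ Fam)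
    (hYπ : Cfsg.IsPiSubgroup π Y) (hYC : Cfsg.signalizerInf A θ ≤ normalizer (Y : Set G)) :
    Y ≤ M := by
  obtain ⟨W, hW, hWmax⟩ := h.sub π r hr hrπ
  set H : Subgroup G := ⨆ Z : {Z : Subgroup G // Z ∈ Fam ∧ Cfsg.IsPiSubgroup π Z ∧
    Cfsg.signalizerInf A θ ≤ normalizer (Z : Set G)}, (Z : Subgroup G) with hH
  have hmem : ∀ {Z : Subgroup G}, Z ∈ Fam → Cfsg.IsPiSubgroup π Z →
      Cfsg.signalizerInf A θ ≤ normalizer (Z : Set G) → Z ≤ H := fun hZ h1 h2 =>
    le_iSup (fun Z : {Z : Subgroup G // Z ∈ Fam ∧ Cfsg.IsPiSubgroup π Z ∧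
      Cfsg.signalizerInf A θ ≤ normalizer (Z : Set G)} => (Z : Subgroup G)) ⟨_, hZ, h1, h2⟩
  have hnorm : ∀ {g : G}, (∀ Z : Subgroup G, Z ∈ Fam → Cfsg.IsPiSubgroup π Z →
      Cfsg.signalizerInf A θ ≤ normalizer (Z : Set G) → g ∈ normalizer (Z : Set G)) →
      g ∈ normalizer (H : Set G) := by
    intro g hg
    refine mem_normalizer_of_forall_le fun x hx => ?_
    have hle : H ≤ H.comap (MulAut.conj g).toMonoidHom := iSup_le fun Z z hz =>
      hmem Z.2.1 Z.2.2.1 Z.2.2.2 ((mem_normalizer_iff.mp (hg Z Z.2.1 Z.2.2.1 Z.2.2.2) z).mp hz)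
    exact hle hx
  have hHf : H ∈ Fam := family_of_le hW
    (iSup_le fun Z => hWmax Z Z.2.1 Z.2.2.1 Z.2.2.2)
    fun g hg => hnorm fun Z hZ _ _ => fam_norm hZ hg
  have hHC : H ⊔ Cfsg.signalizerInf A θ ∈ Fam :=
    family_sup h.elem hHf (inf_mem h.toSetup) fun c hc => hnorm fun Z _ _ h2 => h2 hc
  obtain ⟨K, hK, hHK⟩ := exists_top hHC
  have hKM : K = M := hns.eq_of_cores h hK fun s hs =>
    (hmem (mem_oq hns.top.1 s) (isPiSubgroup_oq hs (hπ s hs))
      (hns.inf_le.trans (le_normalizer_oq s M))).trans (le_sup_left.trans hHK)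
  exact hKM ▸ (hmem hY hYπ hYC).trans (le_sup_left.trans hHK)

/-! ### Lines escaping a maximal member -/

theorem line_criterion (h : Hyp p A θ) (hM : IsTop p A θ M) {g : G} (hg : g ∈ A) (hg1 : g ≠ 1) :
    ∃ k : Subgroup G, k ≤ A ∧ Nat.card k = p ^ 2 ∧ g ∉ k ∧ ¬ Cfsg.signalizerInf k θ ≤ M := by
  by_contra hcon
  push Not at hcon
  have hgM : g ∈ normalizer (M : Set G) := fam_norm hM.1 hg
  have hcomm : ∀ X ∈ Fam, ⁅X, zpowers g⁆ ≤ M := fun X hX => by
    refine comm_le_of_lines h.elem h.card hX.1 (fam_not_dvd hX) (fam_norm hX) hg hg1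
      fun k hk hkc hgk => ?_
    exact (commutator_mono ((family_inf_centralizer_eq h.functor.1 hX hk).le.trans
      (inf_le_right.trans (hcon k hk hkc hgk))) le_rfl).trans (comm_le_self hgM)
  set J := ⁅M, zpowers g⁆ with hJ
  have hJθ : ∀ f ∈ A, f ≠ 1 → ⁅θ f, zpowers g⁆ ≤ J := fun f hf hf1 => by
    rw [← comm_idem h.toSetup (theta_mem_family h.functor hf hf1) hg]
    exact commutator_mono (hcomm _ (theta_mem_family h.functor hf hf1)) le_rfl
  have hgJ : θ g ≤ normalizer (J : Set G) := by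
    obtain ⟨B, hBA, hB, hgB⟩ := exists_line_not_mem h.toSetup hg hg1
    haveI := (elementary_of_le h.elem hBA).1
    have hgf := theta_mem_family h.functor hg hg1
    refine LocalEven.le_of_centralizers_le (elementary_of_le h.elem hBA).2 hB.ge
      (hBA.trans (fam_norm hgf)) (fam_not_dvd hgf) fun e he he1 x hx => ?_
    have heg : e ∉ zpowers g := fun hh =>
      hgB (zpowers_le.mpr he ((zpowers_eq_of_mem h.elem hg hh he1).ge (mem_zpowers g)))
    have hLA : zpowers g ⊔ zpowers e ≤ A := sup_le (zpowers_le.mpr hg) (zpowers_le.mpr (hBA he))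
    have hxL : x ∈ centralizer ((zpowers g ⊔ zpowers e : Subgroup G) : Set G) :=
      le_centralizer_pair (X := θ g ⊓ centralizer ({e} : Set G))
        (inf_le_left.trans (theta_le_centralizer h.toSetup hg hg1)) inf_le_right hx
    set Jx := ⨆ f : {f : G // f ∈ zpowers g ⊔ zpowers e ∧ f ∉ zpowers g},
      ⁅θ (f : G), zpowers g⁆ with hJx
    have hJJ : Jx = J := by
      refine le_antisymm (iSup_le fun f => hJθ f (hLA f.2.1) fun e' => f.2.2 (e' ▸ one_mem _)) ?_
      refine comm_le_of_fixed (elementary_of_le h.elem hLA) (card_pair h.elem hg hg1 (hBA he) heg).ge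
        hM.1.1 (fam_not_dvd hM.1) (hLA.trans (fam_norm hM.1)) (mem_sup_left (mem_zpowers g))
        fun f hf hfg => ?_
      exact (commutator_mono (fam_fix hM.1 (hLA hf) fun e' => hfg (e' ▸ one_mem _)) le_rfl).trans
        (le_iSup (fun f : {f : G // f ∈ zpowers g ⊔ zpowers e ∧ f ∉ zpowers g} =>
          ⁅θ (f : G), zpowers g⁆) ⟨f, hf, hfg⟩)
    rw [← hJJ]
    refine mem_normalizer_of_forall_le fun y hy => ?_
    have hle : Jx ≤ Jx.comap (MulAut.conj x).toMonoidHom := iSup_le fun f z hz => by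
      have hf1 : (f : G) ≠ 1 := fun e' => f.2.2 (e' ▸ one_mem _)
      have hxf : x ∈ θ (f : G) := fam_fix hgf (hLA f.2.1) hf1 ⟨hx.1,
        centralizer_le (Set.singleton_subset_iff.mpr f.2.1) hxL⟩
      have hn : x ∈ normalizer ((⁅θ (f : G), zpowers g⁆ : Subgroup G) : Set G) :=
        inf_centralizer_le_normalizer_comm le_normalizer g
          ⟨hxf, theta_le_centralizer h.toSetup hg hg1 hx.1⟩
      exact le_iSup (fun f : {f : G // f ∈ zpowers g ⊔ zpowers e ∧ f ∉ zpowers g} =>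
        ⁅θ (f : G), zpowers g⁆) f ((mem_normalizer_iff.mp hn z).mp hz)
    exact hle hy
  have hθg : θ g ≤ M := by
    by_cases hJ1 : J = ⊥
    · exact (hM.eq (theta_mem_family h.functor hg hg1)
        (le_theta_of_centralizes hM.1 hg hg1 (comm_eq_bot_iff.mp hJ1))).ge
    · exact le_top_of_normalizes h hM (mem_comm h.toSetup hM.1 hg) hJ1
        (normalizer_commutator_ge_left _ _) (theta_mem_family h.functor hg hg1) hgJ
  obtain ⟨f, hf, hf1, hfM⟩ := exists_theta_not_le h hM.1
  have hfm := theta_mem_family h.functor hf hf1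
  refine hfM ?_
  rw [← Core.commutator_sup_centralizer (A := zpowers g) (zpowers_le.mpr (fam_norm hfm hg))
    (by rw [Nat.card_zpowers]; exact coprime_orderOf h.toSetup hfm hg) (Or.inl inferInstance)]
  refine sup_le (hcomm _ hfm) ?_
  rw [centralizer_zpowers]
  exact (fam_fix hfm hg hg1).trans hθg

/-- Two points of each line have their values outside a given maximal member. -/
theorem two_outside (h : Hyp p A θ) (hM : IsTop p A θ M) {m : Subgroup G} (hm : m ≤ A)
    (hmc : Nat.card m = p ^ 2) {g : G} (hg : g ∈ A) (hg1 : g ≠ 1) :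
    ∃ x ∈ m, x ≠ 1 ∧ x ∉ zpowers g ∧ ¬ θ x ≤ M := by
  obtain ⟨k, hk, hkc, hgk, hnle⟩ := line_criterion h hM hg hg1
  obtain ⟨x, ⟨hxm, hxk⟩, hx1⟩ := lines_meet h.elem h.card hm hk hmc hkc
  refine ⟨x, hxm, hx1, fun hxg => hgk ?_, fun hle => hnle ((inf_le_theta hxk hx1).trans hle)⟩
  exact zpowers_le.mpr hxk ((zpowers_eq_of_mem h.elem hg hxg hx1).ge (mem_zpowers g))

/-- A value which is a maximal member: its operator centralises the members for its primes. -/
theorem singleton_centralizes (h : Hyp p A θ) (ha : a ∈ A) (ha1 : a ≠ 1)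
    (hT : IsTop p A θ (θ a)) (hq : q.Prime) (hne : oq q (θ a) ≠ ⊥) (hY : Y ∈ Fam)
    (hYq : IsPGroup q Y) : Y ≤ centralizer ({a} : Set G) := by
  haveI := Fact.mk hq
  obtain ⟨P, hQP, hP⟩ := exists_maxMember (mem_oq hT.1 q) (oq_isPGroup q (θ a))
  have hqp : q ≠ p := ne_p_of_dvd hT.1 (dvd_of_oq_ne_bot hq hne)
  have hcop : (orderOf a).Coprime q := by
    rw [elementary_orderOf h.elem ha ha1]
    exact (Nat.coprime_primes hp.out hq).mpr (Ne.symm hqp)
  have hcP : a ∈ centralizer (P : Set G) := by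
    refine LocalEvenB.mem_centralizer_of_axb hcop hP.2.1 (oq_isPGroup q (θ a))
      (hQP.trans le_normalizer) (fam_norm hP.1 ha) ?_ ?_
    · exact mem_centralizer_iff.mpr fun y hy => mem_centralizer_singleton_iff.mp
        (theta_le_centralizer h.toSetup ha ha1 (oq_le q _ hy))
    · have hA : A ≤ normalizer (centralizer (oq q (θ a) : Set G) : Set G) :=
        (le_normalizer_oq_of (fam_norm hT.1) q).trans (normalizer_le_normalizer_centralizer_set _)
      exact mem_centralizer_iff.mpr fun y hy => mem_centralizer_singleton_iff.mp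
        (theta_le_centralizer h.toSetup ha ha1
          (le_top_of_centralizes_oq h hT hne (mem_inf hP.1 hA) inf_le_right hy))
  obtain ⟨Q, hYQ, hQ⟩ := exists_maxMember hY hYq
  obtain ⟨c, hc, rfl⟩ := transitivity h.elem h.card.ge h.functor hP hQ
  refine hYQ.trans ?_
  rintro _ ⟨x, hx, rfl⟩
  have hca : c ∈ centralizer ({a} : Set G) :=
    theta_le_centralizer h.toSetup ha ha1 (inf_le ha ha1 hc)
  have hxa : x ∈ centralizer ({a} : Set G) :=
    mem_centralizer_singleton_iff.mpr (mem_centralizer_iff.mp hcP x hx)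
  exact mul_mem (mul_mem hca hxa) (inv_mem hca)

/-- Two values which are maximal members have no common core part. -/
theorem singleton_inter_false (h : Hyp p A θ) {e f : G} (he : e ∈ A) (he1 : e ≠ 1) (hf : f ∈ A)
    (hf1 : f ≠ 1) (hTe : IsTop p A θ (θ e)) (hTf : IsTop p A θ (θ f)) (hfe : f ∉ zpowers e)
    (hq : q.Prime) (hne : oq q (θ e) ⊓ oq q (θ f) ≠ ⊥) : False := by
  haveI := Fact.mk hq
  by_cases heq : θ e = θ f
  · have hm := card_pair h.elem he he1 hf hfe
    have hmA : zpowers e ⊔ zpowers f ≤ A := sup_le (zpowers_le.mpr he) (zpowers_le.mpr hf)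
    obtain ⟨x, hx, hx1, -, hnle⟩ := two_outside h hTe hmA hm he he1
    have hc : θ e ≤ centralizer ((zpowers e ⊔ zpowers f : Subgroup G) : Set G) :=
      le_centralizer_pair (theta_le_centralizer h.toSetup he he1)
        (heq ▸ theta_le_centralizer h.toSetup hf hf1)
    exact hnle (hTe.eq (theta_mem_family h.functor (hmA hx) hx1)
      (le_theta_of_centralizes hTe.1 (hmA hx) hx1
        (hc.trans (centralizer_le (Set.singleton_subset_iff.mpr hx))))).ge
  have hQe : oq q (θ e) ≠ ⊥ := fun e' => hne (le_bot_iff.mp (inf_le_left.trans e'.le))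
  have hQf : oq q (θ f) ≠ ⊥ := fun e' => hne (le_bot_iff.mp (inf_le_right.trans e'.le))
  have hQef : oq q (θ e) ≤ θ f := le_theta_of_centralizes (mem_oq hTe.1 q) hf hf1
    (singleton_centralizes h hf hf1 hTf hq hQf (mem_oq hTe.1 q) (oq_isPGroup q _))
  set N₁ := ⁅θ f, zpowers e⁆ with hN₁
  have hN₁f : N₁ ∈ Fam := mem_comm h.toSetup hTf.1 he
  have hN₁Q : N₁ ≤ centralizer (oq q (θ f) : Set G) :=
    comm_le_centralizer (mem_centralizer_iff.mpr fun y hy => mem_centralizer_singleton_iff.mp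
      (singleton_centralizes h he he1 hTe hq hQe (mem_oq hTf.1 q) (oq_isPGroup q _) hy))
      (le_normalizer_oq q _)
  set Z := oq q (θ e) ⊓ centralizer (N₁ : Set G) with hZ
  have hZ1 : Z ≠ ⊥ := ne_bot_of_le_ne_bot hne
    (le_inf inf_le_left (inf_le_right.trans (le_centralizer_iff.mp hN₁Q)))
  have hZA : A ≤ normalizer (Z : Set G) := le_normalizer_inf (le_normalizer_oq_of (fam_norm hTe.1) q)
    ((fam_norm hN₁f).trans (normalizer_le_normalizer_centralizer_set _))
  have hef : θ e ≤ normalizer (Z : Set G) := by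
    rw [← Core.commutator_sup_centralizer (A := zpowers f) (zpowers_le.mpr (fam_norm hTe.1 hf))
      (by rw [Nat.card_zpowers]; exact coprime_orderOf h.toSetup hTe.1 hf) (Or.inl inferInstance)]
    refine sup_le ?_ ?_
    · refine (comm_le_centralizer ?_ (le_normalizer_oq q _)).trans
        ((centralizer_le (SetLike.coe_subset_coe.mpr inf_le_left)).trans (centralizer_le_normalizer _))
      exact mem_centralizer_iff.mpr fun y hy => mem_centralizer_singleton_iff.mp
        (theta_le_centralizer h.toSetup hf hf1 (hQef hy))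
    · rw [centralizer_zpowers]
      intro x hx
      have hxf : x ∈ θ f := fam_fix hTe.1 hf hf1 hx
      exact inf_normalizer_le_normalizer_inf ⟨le_normalizer_oq q _ hx.1,
        normalizer_le_normalizer_centralizer_set _
          (normalizer_commutator_ge_left (θ f) (zpowers e) hxf)⟩
  have hle : N₁ ≤ θ e := le_top_of_normalizes h hTe (family_of_le (mem_oq hTe.1 q) inf_le_left hZA)
    hZ1 hef hN₁f ((le_centralizer_iff.mp inf_le_right).trans (centralizer_le_normalizer _))
  have hN1 : N₁ = ⊥ := by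
    rw [hN₁, ← comm_idem h.toSetup hTf.1 he, comm_eq_bot_iff]
    exact hle.trans (theta_le_centralizer h.toSetup he he1)
  exact heq (hTf.eq hTe.1 (le_theta_of_centralizes hTf.1 he he1 (comm_eq_bot_iff.mp hN1))).symm

end CfsgLib.Signalizer.Solv
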