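import Cfsg.Agent.Lib.Signalizer.Solvable.AllTops
import Cfsg.Agent.Lib.Signalizer.Solvable.Hall

/-!
Owner: helper11. The case in which all values of the functor are maximal members is impossible.
-/

set_option autoImplicit false
set_option maxHeartbeats 400000

namespace CfsgLib.Signalizer.Solv

open Subgroup
open scoped commutatorElement

variable {G : Type*} [Group G] [Finite G] {p : ℕ} [hp : Fact p.Prime] {A : Subgroup G}
  {θ : G → Subgroup G} {M K X Y V W T : Subgroup G} {a b e f x y z : G} {m k k' : Subgroup G}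
  {q r s t : ℕ}

local notation "Fam" => Cfsg.signalizerFamily p A θ

omit [Finite G] hp in
theorem mem_centralizer_of_le (h : X ≤ centralizer ({a} : Set G)) : a ∈ centralizer (X : Set G) :=
  mem_centralizer_iff.mpr fun _ hy => mem_centralizer_singleton_iff.mp (h hy)

theorem sup_line (hS : Setup p A θ) (hm : m ≤ A) (hmc : Nat.card m = p ^ 2) (hy : y ∈ A)
    (hym : y ∉ m) : m ⊔ zpowers y = A := by
  have hy1 : y ≠ 1 := fun e => hym (e ▸ one_mem _)
  have hd : m ⊓ zpowers y = ⊥ := by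
    refine (eq_bot_iff_forall _).mpr fun w hw => ?_
    by_contra hw1
    exact hym ((zpowers_le.mpr hw.1) ((zpowers_eq_of_mem hS.elem hy hw.2 hw1).ge (mem_zpowers y)))
  refine eq_of_le_of_card_ge (sup_le hm (zpowers_le.mpr hy)) ?_
  have h := Core.card_sup_mul_card_inf m (zpowers y)
    (le_normalizer_of_le_elementary hS.elem hm (zpowers_le.mpr hy))
  rw [hd, card_bot, mul_one, hmc, Nat.card_zpowers, elementary_orderOf hS.elem hy hy1] at h
  rw [h, hS.card, pow_succ]

theorem le_centralizer_of_line (hS : Setup p A θ) (hm : m ≤ A) (hmc : Nat.card m = p ^ 2)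
    (hy : y ∈ A) (hym : y ∉ m) (h1 : X ≤ centralizer (m : Set G))
    (h2 : X ≤ centralizer ({y} : Set G)) (hz : z ∈ A) : X ≤ centralizer ({z} : Set G) := by
  have h : A ≤ centralizer (X : Set G) := by
    rw [← sup_line hS hm hmc hy hym]
    exact sup_le (le_centralizer_iff.mp h1) (zpowers_le.mpr (mem_centralizer_of_le h2))
  exact fun w hw => mem_centralizer_singleton_iff.mpr (mem_centralizer_iff.mp (h hz) w hw)

theorem pivot (hS : Setup p A θ) (hm : m ≤ A) (hmc : Nat.card m = p ^ 2) (hy : y ∈ A)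
    (hym : y ∉ m) (hW : W ≤ centralizer (m : Set G)) (hz : z ∈ A) :
    ⁅W, zpowers z⁆ ≤ ⁅W, zpowers y⁆ := by
  refine commutator_le.mpr fun w hw g hg => ?_
  have hgA : g ∈ m ⊔ zpowers y := (sup_line hS hm hmc hy hym).ge (zpowers_le.mpr hz hg)
  obtain ⟨i, hi, u, hu, rfl⟩ := (Core.mem_sup_iff_mul' (le_normalizer_of_le_elementary hS.elem
    (zpowers_le.mpr hy) hm)).mp (sup_comm m (zpowers y) ▸ hgA)
  have hwu : w * i = i * w := (mem_centralizer_iff.mp (hW hw) i hi).symm
  have hiu : i * u = u * i := elementary_comm hS.elem (hm hi) (zpowers_le.mpr hy hu)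
  have he : ⁅w, i * u⁆ = i * ⁅w, u⁆ * i⁻¹ := by
    simp only [commutatorElement_def, mul_inv_rev]
    rw [← mul_assoc w i u, hwu]; group
  rw [he]
  have hn : i ∈ normalizer ((⁅W, zpowers y⁆ : Subgroup G) : Set G) := by
    refine inf_centralizer_le_normalizer_comm (Y := zpowers i) ?_ y ⟨mem_zpowers i, ?_⟩
    · exact zpowers_le.mpr (centralizer_le_normalizer _
        (le_centralizer_iff.mp hW hi))
    · exact mem_centralizer_singleton_iff.mpr (elementary_comm hS.elem (hm hi) hy)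
  exact (mem_normalizer_iff.mp hn _).mp (commutator_mem_commutator hw hu)

theorem theta_ne (h : Hyp p A θ) (he : e ∈ A) (he1 : e ≠ 1) (hf : f ∈ A) (hfe : f ∉ zpowers e) :
    ¬ θ e ≤ centralizer ({f} : Set G) := by
  intro hle
  have hf1 : f ≠ 1 := fun e' => hfe (e' ▸ one_mem _)
  have hTe := all_tops h he he1
  have heq : θ e = θ f :=
    hTe.eq (theta_mem_family h.functor hf hf1) (le_theta_of_centralizes hTe.1 hf hf1 hle)
  have hm := card_pair h.elem he he1 hf hfe
  have hmA : zpowers e ⊔ zpowers f ≤ A := sup_le (zpowers_le.mpr he) (zpowers_le.mpr hf)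
  obtain ⟨u, hu, hu1, -, hnle⟩ := two_outside h hTe hmA hm he he1
  have hc : θ e ≤ centralizer ((zpowers e ⊔ zpowers f : Subgroup G) : Set G) :=
    le_centralizer_pair (theta_le_centralizer h.toSetup he he1) hle
  exact hnle (hTe.eq (theta_mem_family h.functor (hmA hu) hu1)
    (le_theta_of_centralizes hTe.1 (hmA hu) hu1
      (hc.trans (centralizer_le (Set.singleton_subset_iff.mpr hu))))).ge

theorem exists_moved_core (h : Hyp p A θ) (he : e ∈ A) (he1 : e ≠ 1) (hf : f ∈ A)
    (hfe : f ∉ zpowers e) : ∃ s : ℕ, Mu f (θ e) s :=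
  exists_mu_of_not_le h.toSetup (theta_mem_family h.functor he he1) hf (theta_ne h he he1 hf hfe)

theorem core_centralizes (h : Hyp p A θ) (hx : x ∈ A) (hx1 : x ≠ 1) (ht : t.Prime)
    (hne : oq t (θ x) ≠ ⊥) (hY : Y ∈ Fam) (hYt : IsPGroup t Y) :
    Y ≤ centralizer ({x} : Set G) :=
  singleton_centralizes h hx hx1 (all_tops h hx hx1) ht hne hY hYt

theorem comm_eq_self (hS : Setup p A θ) (hT : T ∈ Fam) (ha : a ∈ A)
    (h : T ⊓ centralizer ({a} : Set G) = ⊥) : ⁅T, zpowers a⁆ = T := by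
  have := Core.commutator_sup_centralizer (A := zpowers a) (zpowers_le.mpr (fam_norm hT ha))
    (by rw [Nat.card_zpowers]; exact coprime_orderOf hS hT ha) (Or.inl inferInstance)
  rwa [centralizer_zpowers, h, sup_bot_eq] at this

omit hp in
theorem inter_core_comm (ht : t.Prime) (hs : s.Prime) (hts : t ≠ s) :
    oq t K ⊓ M ≤ centralizer ((oq s M ⊓ K : Subgroup G) : Set G) := by
  haveI := Fact.mk ht
  haveI := Fact.mk hs
  refine le_centralizer_of_normalizes ?_ ?_ (inf_eq_bot_of_coprime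
    (coprime_pgroups hts ((oq_isPGroup t K).to_le inf_le_left) ((oq_isPGroup s M).to_le inf_le_left)))
  · exact fun u hu => inf_normalizer_le_normalizer_inf
      ⟨le_normalizer_oq s M hu.2, le_normalizer (oq_le t K hu.1)⟩
  · exact fun v hv => inf_normalizer_le_normalizer_inf
      ⟨le_normalizer_oq t K hv.2, le_normalizer (oq_le s M hv.1)⟩

omit hp in
theorem inter_axb (ht : t.Prime) (hs : s.Prime) (hts : t ≠ s) (hB : IsPGroup s X)
    (hBn : X ≤ normalizer (oq s M : Set G)) (hxB : oq t K ⊓ M ≤ centralizer (X : Set G))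
    (hC : oq s M ⊓ centralizer (X : Set G) ≤ K) :
    oq t K ⊓ M ≤ centralizer (oq s M : Set G) := by
  haveI := Fact.mk ht
  haveI := Fact.mk hs
  intro u hu
  have hcop : (orderOf u).Coprime s := by
    obtain ⟨j, hj⟩ := (oq_isPGroup t K) ⟨u, hu.1⟩
    exact ((Nat.coprime_primes ht hs).mpr hts).pow_left j |>.coprime_dvd_left
      (orderOf_dvd_of_pow_eq_one (congrArg (fun w : oq t K => (w : G)) hj))
  refine LocalEvenB.mem_centralizer_of_axb hcop (oq_isPGroup s M) hB hBn
    (le_normalizer_oq s M hu.2) (hxB hu) ?_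
  exact centralizer_le (SetLike.coe_subset_coe.mpr (le_inf inf_le_left hC))
    (inter_core_comm ht hs hts hu)

/-- A configuration around a value and one of its moved cores. -/
structure Corner (p : ℕ) (A : Subgroup G) (θ : G → Subgroup G) (a : G) (q : ℕ)
    (m V K : Subgroup G) : Prop where
  hyp : Hyp p A θ
  mem : a ∈ A
  ne : a ≠ 1
  prime : q.Prime
  line : m ≤ A
  card : Nat.card m = p ^ 2
  a_mem : a ∈ m
  V_ne : V ≠ ⊥
  V_le : V ≤ oq q (θ a)
  V_fam : V ∈ Cfsg.signalizerFamily p A θ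
  V_line : V ≤ centralizer (m : Set G)
  V_comm : ∀ y ∈ A, y ∉ m → ⁅V, zpowers y⁆ = V
  top : IsTop p A θ K
  loc : ∀ Y ∈ Cfsg.signalizerFamily p A θ, Y ≤ normalizer (V : Set G) → Y ≤ K

theorem exists_corner (h : Hyp p A θ) : ∃ (a : G) (q : ℕ) (m V K : Subgroup G),
    Corner p A θ a q m V K := by
  obtain ⟨a, ha, ha1⟩ := exists_ne_one_of_sq_le (card_A_ge h.toSetup)
  obtain ⟨b, hb, hba⟩ := exists_not_mem_zpowers h.elem le_rfl (card_A_ge h.toSetup) a ha
  obtain ⟨q, hq, hQb⟩ := exists_moved_core h ha ha1 hb hba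
  have hQ := mem_oq (theta_mem_family h.functor ha ha1) q
  obtain ⟨m, hm, hmc, hbm, hW⟩ :=
    exists_weight_line h.elem h.card (fam_not_dvd hQ) (fam_norm hQ) hb hQb
  have ham : a ∈ m := by
    by_contra ham
    exact hW (le_centralizer_of_line h.toSetup hm hmc ha ham inf_le_right
      (inf_le_left.trans ((oq_le q _).trans (theta_le_centralizer h.toSetup ha ha1))) hb)
  have hWf : oq q (θ a) ⊓ centralizer (m : Set G) ∈ Fam :=
    mem_inf hQ (le_normalizer_centralizer_of_le h.elem hm)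
  have hV := mem_comm h.toSetup hWf hb
  have hVW := comm_le_self (fam_norm hWf hb)
  obtain ⟨K, hK, hKV⟩ := exists_local_top h hV (comm_ne_bot hW)
  exact ⟨a, q, m, _, K, h, ha, ha1, hq, hm, hmc, ham, comm_ne_bot hW, hVW.trans inf_le_left, hV,
    hVW.trans inf_le_right, fun y hy hym => le_antisymm (comm_le_self (fam_norm hV hy))
      ((comm_idem h.toSetup hWf hb).ge.trans
        (pivot h.toSetup hm hmc hy hym (hVW.trans inf_le_right) hb)), hK, hKV⟩

namespace Corner

variable (c : Corner p A θ a q m V K)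
include c

theorem V_le_K : V ≤ K := c.loc V c.V_fam le_normalizer

theorem q_pi : oq q (θ a) ≠ ⊥ := fun e' => c.V_ne (le_bot_iff.mp (c.V_le.trans e'.le))

theorem not_pi (hy : y ∈ A) (hym : y ∉ m) : oq q (θ y) = ⊥ := by
  by_contra hne
  haveI := Fact.mk c.prime
  refine c.V_ne ?_
  rw [← c.V_comm y hy hym, comm_eq_bot_iff]
  exact core_centralizes c.hyp hy (fun e' => hym (e' ▸ one_mem _)) c.prime hne c.V_fam
    ((oq_isPGroup q _).to_le c.V_le)

theorem cores_le (hs : s.Prime) (hsq : s ≠ q) : oq s (θ a) ≤ K :=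
  c.loc _ (mem_oq (theta_mem_family c.hyp.functor c.mem c.ne) s)
    ((oq_commute hs c.prime hsq).trans ((centralizer_le (SetLike.coe_subset_coe.mpr c.V_le)).trans
      (centralizer_le_normalizer _)))

theorem CQ_le : oq q (θ a) ⊓ centralizer (V : Set G) ≤ K :=
  c.loc _ (mem_inf (mem_oq (theta_mem_family c.hyp.functor c.mem c.ne) q)
    ((fam_norm c.V_fam).trans (normalizer_le_normalizer_centralizer_set _)))
    (inf_le_right.trans (centralizer_le_normalizer _))

theorem inter_le_centralizer (ht : t.Prime) (hs : s.Prime) (hts : t ≠ s) :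
    oq t K ⊓ θ a ≤ centralizer (oq s (θ a) : Set G) := by
  by_cases hsq : s = q
  · subst hsq
    haveI := Fact.mk hs
    exact inter_axb ht hs hts ((oq_isPGroup s _).to_le c.V_le) (c.V_le.trans le_normalizer)
      ((inter_core_comm ht hs hts).trans
        (centralizer_le (SetLike.coe_subset_coe.mpr (le_inf c.V_le c.V_le_K)))) c.CQ_le
  · exact (inter_core_comm ht hs hts).trans
      (centralizer_le (SetLike.coe_subset_coe.mpr (le_inf le_rfl (c.cores_le hs hsq))))

theorem fpf_a (ht : t.Prime) (h0 : oq t (θ a) = ⊥) : oq t K ⊓ centralizer ({a} : Set G) = ⊥ := by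
  haveI := Fact.mk ht
  haveI := (theta_mem_family c.hyp.functor c.mem c.ne).1
  rw [← le_bot_iff, ← h0]
  refine le_trans (le_inf inf_le_left (fam_fix (mem_oq c.top.1 t) c.mem c.ne))
    (le_oq_of_centralizes inf_le_right ((oq_isPGroup t K).to_le inf_le_left) fun s hs => ?_)
  by_cases hst : s = t
  · subst hst
    rw [h0]
    exact fun u _ => mem_centralizer_iff.mpr fun v hv => by rw [mem_bot.mp hv, one_mul, mul_one]
  · exact c.inter_le_centralizer ht hs (Ne.symm hst)

/-- The two operators separate the primes inside the value at the point of intersection. -/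
theorem moved_commute (hb : b ∈ A) (hbm : b ∉ m) (hr : r.Prime) (hmov : Mu a (θ b) r) :
    ∃ X : Subgroup G, X ∈ Fam ∧ IsPGroup r X ∧ X ≠ ⊥ ∧ ⁅X, zpowers a⁆ = X ∧
      X ≤ centralizer (V : Set G) := by
  have h := c.hyp
  haveI := Fact.mk hr
  haveI := Fact.mk c.prime
  have hb1 : b ≠ 1 := fun e' => hbm (e' ▸ one_mem _)
  have hqr : q ≠ r := fun e' => hmov.ne_bot (e' ▸ c.not_pi hb hbm)
  have hR := mem_oq (theta_mem_family h.functor hb hb1) r
  obtain ⟨n, hn, hnc, han, hW⟩ :=
    exists_weight_line h.elem h.card (fam_not_dvd hR) (fam_norm hR) c.mem hmov.2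
  have hbn : b ∈ n := by
    by_contra hbn
    exact hW (le_centralizer_of_line h.toSetup hn hnc hb hbn inf_le_right
      (inf_le_left.trans ((oq_le r _).trans (theta_le_centralizer h.toSetup hb hb1))) c.mem)
  have hWf : oq r (θ b) ⊓ centralizer (n : Set G) ∈ Fam :=
    mem_inf hR (le_normalizer_centralizer_of_le h.elem hn)
  refine ⟨_, mem_comm h.toSetup hWf c.mem, ((oq_isPGroup r (θ b)).to_le inf_le_left).to_le
    (comm_le_self (fam_norm hWf c.mem)), comm_ne_bot hW, comm_idem h.toSetup hWf c.mem, ?_⟩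
  obtain ⟨w, ⟨hwm, hwn⟩, hw1⟩ := lines_meet h.elem h.card c.line hn c.card hnc
  have hwA : w ∈ A := c.line hwm
  have hL := theta_mem_family h.functor hwA hw1
  haveI := hL.1
  obtain ⟨H, hHL, hHA, hHπ, hHi⟩ := exists_invariant_hall (fam_norm hL)
    (coprime_card_of_pGroup (elementary_isPGroup h.elem) (fam_not_dvd hL)) {u : ℕ | u = q ∨ u = r}
  have hH : H ∈ Fam := family_of_le hL hHL hHA
  haveI := hH.1
  have key : ∀ {u : ℕ} {e : G}, u.Prime → (u = q ∨ u = r) → e ∈ A → e ≠ 1 → oq u (θ e) ≠ ⊥ →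
      oq u (θ e) ⊓ θ w ≤ H ∧ ∃ P : Sylow u H,
        (P : Subgroup H).map H.subtype ≤ centralizer ({e} : Set G) := by
    intro u e hu huπ he he1 hne
    haveI := Fact.mk hu
    obtain ⟨P, hP⟩ := exists_inv_sylow h.toSetup hH u
    set PG := (P : Subgroup H).map H.subtype with hPG
    have hPH : PG ≤ H := map_subtype_le _
    have hPf : PG ∈ Fam := family_of_le hH hPH hP
    have hPc : PG ≤ centralizer ({e} : Set G) :=
      core_centralizes h he he1 hu hne hPf (P.isPGroup'.map _)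
    refine ⟨?_, P, hPc⟩
    have hPn : PG ≤ normalizer ((oq u (θ e) ⊓ θ w : Subgroup G) : Set G) := fun g hg =>
      inf_normalizer_le_normalizer_inf ⟨le_normalizer_oq u _ (le_theta_of_centralizes hPf he he1
        hPc hg), le_normalizer (hHL (hPH hg))⟩
    set J := (oq u (θ e) ⊓ θ w) ⊔ PG with hJ
    obtain ⟨j, hj⟩ := (Components.isPGroup_sup hPn ((oq_isPGroup u _).to_le inf_le_left)
      (P.isPGroup'.map _)).exists_card_eq
    have hJd : u ^ j ∣ Nat.card H := by
      refine ((Nat.Prime.coprime_iff_not_dvd hu).mpr (hHi u hu huπ)).pow_left j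
        |>.dvd_of_dvd_mul_right ?_
      rw [← hj, ← relIndex_bot_left H, relIndex_mul_relIndex _ _ _ bot_le hHL, relIndex_bot_left]
      exact card_dvd_of_le (sup_le inf_le_right (hPH.trans hHL))
    have hle : Nat.card J ≤ Nat.card PG := by
      rw [hj, hPG, card_map_of_injective H.subtype_injective, P.card_eq_multiplicity]
      exact Nat.pow_le_pow_right hu.pos
        ((hu.pow_dvd_iff_le_factorization Nat.card_pos.ne').mp hJd)
    exact le_sup_left.trans ((eq_of_le_of_card_ge le_sup_right hle).ge.trans hPH)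
  obtain ⟨hVH, Pq, hPq⟩ := key c.prime (Or.inl rfl) c.mem c.ne c.q_pi
  obtain ⟨hXH, Pr, hPr⟩ := key hr (Or.inr rfl) hb hb1 hmov.ne_bot
  have hVH' : V ≤ H := (le_inf c.V_le (le_theta_of_centralizes c.V_fam hwA hw1
    (c.V_line.trans (centralizer_le (Set.singleton_subset_iff.mpr hwm))))).trans hVH
  have hWH : oq r (θ b) ⊓ centralizer (n : Set G) ≤ H := (le_inf inf_le_left
    (le_theta_of_centralizes hWf hwA hw1
      (inf_le_right.trans (centralizer_le (Set.singleton_subset_iff.mpr hwn))))).trans hXH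
  have hXr : ⁅oq r (θ b) ⊓ centralizer (n : Set G), zpowers a⁆ ≤ oq r H :=
    (commutator_mono hWH le_rfl).trans (comm_le_oq_of_biprimary hqr (h.elem.2 a c.mem)
      (fam_not_dvd hH) (fam_norm hH c.mem) hHπ Pq hPq)
  have hVq : V ≤ oq q H := (c.V_comm b hb hbm).ge.trans ((commutator_mono hVH' le_rfl).trans
    (comm_le_oq_of_biprimary hqr.symm (h.elem.2 b hb) (fam_not_dvd hH) (fam_norm hH hb)
      (fun u hu hd => (hHπ u hu hd).symm) Pr hPr))
  exact hXr.trans ((oq_commute hr c.prime hqr.symm).trans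
    (centralizer_le (SetLike.coe_subset_coe.mpr hVq)))

theorem moved_pi (hb : b ∈ A) (hbm : b ∉ m) (hmov : Mu a (θ b) r) :
    oq r K ≠ ⊥ ∧ oq r (θ a) = ⊥ := by
  have h := c.hyp
  have hr := hmov.1
  haveI := Fact.mk hr
  have hb1 : b ≠ 1 := fun e' => hbm (e' ▸ one_mem _)
  have h0 : oq r (θ a) = ⊥ := by
    by_contra hne
    exact hmov.2 (core_centralizes h c.mem c.ne hr hne
      (mem_oq (theta_mem_family h.functor hb hb1) r) (oq_isPGroup r _))
  refine ⟨fun hRK => ?_, h0⟩
  obtain ⟨X, hX, hXr, hX1, hXa, hXV⟩ := c.moved_commute hb hbm hr hmov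
  have hXK : X ≤ K := c.loc X hX (hXV.trans (centralizer_le_normalizer _))
  haveI := c.top.1.1
  refine hX1 (le_bot_iff.mp (hRK ▸ le_oq_of_centralizes hXK hXr fun t ht => ?_))
  by_cases htr : t = r
  · subst htr
    rw [hRK]
    exact fun u _ => mem_centralizer_iff.mpr fun v hv => by rw [mem_bot.mp hv, one_mul, mul_one]
  haveI := Fact.mk ht
  rw [← hXa]
  by_cases hta : oq t (θ a) = ⊥
  · exact fpf_centralizes h.toSetup hr ht (Ne.symm htr) hX hXr (mem_oq c.top.1 t) (oq_isPGroup t K)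
      (hXK.trans (le_normalizer_oq t K)) c.mem (by rw [c.fpf_a ht hta]; exact bot_le)
  · exact comm_le_centralizer
      (mem_centralizer_of_le (core_centralizes h c.mem c.ne ht hta (mem_oq c.top.1 t) (oq_isPGroup t K)))
      (hXK.trans (le_normalizer_oq t K))

theorem moved_centralizes (hx : x ∈ A) (hxm : x ∉ m) (ht : t.Prime) (hta : oq t (θ a) = ⊥)
    (hfix : oq t K ≤ centralizer ({x} : Set G)) (hs : s.Prime) (hts : t ≠ s) :
    oq t K ≤ centralizer (oq s (θ x) : Set G) := by
  have h := c.hyp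
  have hx1 : x ≠ 1 := fun e' => hxm (e' ▸ one_mem _)
  have hTf := mem_oq c.top.1 t
  have hTx : oq t K ≤ θ x := le_theta_of_centralizes hTf hx hx1 hfix
  by_cases hmov : oq s (θ x) ≤ centralizer ({a} : Set G)
  · rw [← comm_eq_self h.toSetup hTf c.mem (c.fpf_a ht hta)]
    exact comm_le_centralizer (mem_centralizer_of_le hmov) (hTx.trans (le_normalizer_oq s _))
  obtain ⟨hSK, -⟩ := c.moved_pi (r := s) hx hxm ⟨hs, hmov⟩
  have hSne : oq s (θ x) ≠ ⊥ := fun e' => hmov (e' ▸ bot_le)
  have hSKx : oq s K ≤ θ x := le_theta_of_centralizes (mem_oq c.top.1 s) hx hx1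
    (core_centralizes h hx hx1 hs hSne (mem_oq c.top.1 s) (oq_isPGroup s K))
  refine (le_inf le_rfl hTx).trans (inter_axb ht hs hts (oq_isPGroup s K)
    (hSKx.trans (le_normalizer_oq s _)) (inf_le_left.trans (oq_commute ht hs hts)) ?_)
  exact le_top_of_centralizes_oq h c.top hSK (mem_inf (mem_oq (theta_mem_family h.functor hx hx1) s)
    ((le_normalizer_oq_of (fam_norm c.top.1) s).trans (normalizer_le_normalizer_centralizer_set _)))
    inf_le_right

theorem pi_of_fixed (hx : x ∈ A) (hxm : x ∉ m) (ht : t.Prime)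
    (hne : oq t K ⊓ centralizer ({x} : Set G) ≠ ⊥) : oq t (θ x) ≠ ⊥ := by
  intro h0
  have h := c.hyp
  haveI := Fact.mk ht
  have hx1 : x ≠ 1 := fun e' => hxm (e' ▸ one_mem _)
  have hax : a ∉ zpowers x := fun ha' => hxm
    (zpowers_le.mpr c.a_mem ((zpowers_eq_of_mem h.elem hx ha' c.ne).ge (mem_zpowers x)))
  obtain ⟨r, hmov⟩ := exists_moved_core h hx hx1 c.mem hax
  have hr := hmov.1
  haveI := Fact.mk hr
  obtain ⟨hRK, hra⟩ := c.moved_pi hx hxm hmov
  have hRKx : oq r K ≤ centralizer ({x} : Set G) :=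
    core_centralizes h hx hx1 hr hmov.ne_bot (mem_oq c.top.1 r) (oq_isPGroup r K)
  have hRKθ : oq r K ≤ θ x := le_theta_of_centralizes (mem_oq c.top.1 r) hx hx1 hRKx
  haveI := (theta_mem_family h.functor hx hx1).1
  refine hne (le_bot_iff.mp (le_trans (le_inf inf_le_left (fam_fix (mem_oq c.top.1 t) hx hx1))
    (h0 ▸ le_oq_of_centralizes inf_le_right ((oq_isPGroup t K).to_le inf_le_left) fun s hs => ?_)))
  by_cases hst : s = t
  · subst hst
    rw [h0]
    exact fun u _ => mem_centralizer_iff.mpr fun v hv => by rw [mem_bot.mp hv, one_mul, mul_one]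
  by_cases hsr : s = r
  · subst hsr
    refine inter_axb ht hs (Ne.symm hst) (oq_isPGroup s K) (hRKθ.trans (le_normalizer_oq s _))
      (inf_le_left.trans (oq_commute ht hs (Ne.symm hst))) ?_
    exact le_top_of_centralizes_oq h c.top hRK (mem_inf (mem_oq (theta_mem_family h.functor hx hx1) s)
      ((le_normalizer_oq_of (fam_norm c.top.1) s).trans (normalizer_le_normalizer_centralizer_set _)))
      inf_le_right
  · refine (inter_core_comm ht hs (Ne.symm hst)).trans (centralizer_le (SetLike.coe_subset_coe.mpr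
      (le_inf le_rfl ?_)))
    exact le_top_of_centralizes_oq h c.top hRK (mem_oq (theta_mem_family h.functor hx hx1) s)
      (le_centralizer_iff.mp (c.moved_centralizes hx hxm hr hra hRKx hs (Ne.symm hsr)))

theorem fixed (hx : x ∈ A) (hxm : x ∉ m) (ht : t.Prime)
    (hne : oq t K ⊓ centralizer ({x} : Set G) ≠ ⊥) : oq t K ≤ centralizer ({x} : Set G) :=
  core_centralizes c.hyp hx (fun e' => hxm (e' ▸ one_mem _)) ht (c.pi_of_fixed hx hxm ht hne)
    (mem_oq c.top.1 t) (oq_isPGroup t K)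

theorem q_mem : oq q K ≠ ⊥ := by
  intro h0
  have h := c.hyp
  haveI := Fact.mk c.prime
  haveI := c.top.1.1
  obtain ⟨b, hb, hbm⟩ := exists_not_mem_line h.toSetup c.card
  refine c.V_ne (le_bot_iff.mp (h0 ▸ le_oq_of_centralizes c.V_le_K
    ((oq_isPGroup q _).to_le c.V_le) fun t ht => ?_))
  by_cases htq : t = q
  · subst htq
    rw [h0]
    exact fun u _ => mem_centralizer_iff.mpr fun v hv => by rw [mem_bot.mp hv, one_mul, mul_one]
  rw [← c.V_comm b hb hbm]
  by_cases hfix : oq t K ⊓ centralizer ({b} : Set G) = ⊥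
  · exact fpf_centralizes h.toSetup c.prime ht (Ne.symm htq) c.V_fam
      ((oq_isPGroup q _).to_le c.V_le) (mem_oq c.top.1 t) (oq_isPGroup t K)
      (c.V_le_K.trans (le_normalizer_oq t K)) hb (by rw [hfix]; exact bot_le)
  · exact comm_le_centralizer (mem_centralizer_of_le (c.fixed hb hbm ht hfix))
      (c.V_le_K.trans (le_normalizer_oq t K))

theorem two_points (hk : k ≤ A) (hkc : Nat.card k = p ^ 2) (hkm : k ≠ m) :
    ∃ x ∈ k, ∃ y ∈ k, x ∉ m ∧ y ∉ m ∧ y ∉ zpowers x := by
  obtain ⟨w, ⟨hwk, hwm⟩, hw1⟩ := lines_meet c.hyp.elem c.hyp.card hk c.line hkc c.card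
  obtain ⟨x, hxk, hxm⟩ : ∃ x ∈ k, x ∉ m := by
    by_contra hcon
    push Not at hcon
    exact hkm (eq_of_le_of_card_ge (show k ≤ m from hcon) (by rw [hkc, c.card]))
  refine ⟨x, hxk, x * w, k.mul_mem hxk hwk, hxm, fun hh => hxm ?_, fun hh => hxm ?_⟩
  · simpa using m.mul_mem hh (m.inv_mem hwm)
  · have hwx : w ∈ zpowers x := by simpa using mul_mem (inv_mem (mem_zpowers x)) hh
    exact zpowers_le.mpr hwm ((zpowers_eq_of_mem c.hyp.elem (hk hxk) hwx hw1).ge (mem_zpowers x))

theorem exists_fixed_line (ht : t.Prime) (hz : z ∈ m)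
    (hT : ¬ oq t K ≤ centralizer ({z} : Set G)) :
    ∃ k : Subgroup G, k ≤ A ∧ Nat.card k = p ^ 2 ∧ z ∉ k ∧ oq t K ≤ centralizer (k : Set G) := by
  have h := c.hyp
  have hTf := mem_oq c.top.1 t
  obtain ⟨k, hk, hkc, hzk, hW⟩ :=
    exists_weight_line h.elem h.card (fam_not_dvd hTf) (fam_norm hTf) (c.line hz) hT
  have hkm : k ≠ m := fun e' => hzk (e' ▸ hz)
  obtain ⟨x, hxk, y, hyk, hxm, hym, hyx⟩ := c.two_points hk hkc hkm
  have hfix : ∀ u ∈ k, u ∉ m → oq t K ≤ centralizer ({u} : Set G) := fun u hu hum =>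
    c.fixed (hk hu) hum ht (ne_bot_of_le_ne_bot (fun e' => hW (by rw [e']; exact bot_le))
      (inf_le_inf_left _ (centralizer_le (Set.singleton_subset_iff.mpr hu))))
  refine ⟨k, hk, hkc, hzk, ?_⟩
  rw [← line_eq h.elem hk hkc hxk (fun e' => hxm (e' ▸ one_mem _)) hyk hyx]
  exact le_centralizer_pair (hfix x hxk hxm) (hfix y hyk hym)

/-- The point where two fixed lines meet is on `m`. -/
theorem lines_meet_on {t' : ℕ} {z' : G} (ht : t.Prime) (ht' : t'.Prime) (hk : k ≤ A)
    (hkc : Nat.card k = p ^ 2) (hk' : k' ≤ A) (hkc' : Nat.card k' = p ^ 2) (hz : z ∈ m)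
    (hzk : z ∉ k) (hz' : z' ∈ m) (hzk' : z' ∉ k') (hT : oq t K ≤ centralizer (k : Set G))
    (hT' : oq t' K ≤ centralizer (k' : Set G)) (hTz : ¬ oq t K ≤ centralizer ({z} : Set G))
    (hTz' : ¬ oq t' K ≤ centralizer ({z'} : Set G)) (hkk : k ≠ k') {w : G} (hwk : w ∈ k)
    (hwk' : w ∈ k') (hw1 : w ≠ 1) (hta' : oq t' (θ a) = ⊥) : w ∈ m := by
  by_contra hwm
  have h := c.hyp
  haveI := Fact.mk ht
  haveI := Fact.mk ht'
  have hwA : w ∈ A := hk hwk
  have hTne : oq t K ≠ ⊥ := fun e' => hTz (e' ▸ bot_le)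
  have hTne' : oq t' K ≠ ⊥ := fun e' => hTz' (e' ▸ bot_le)
  have honly : ∀ u : G, u ∈ k → u ∈ k' → u ∈ zpowers w := by
    intro u hu hu'
    by_contra huw
    exact hkk ((line_eq h.elem hk hkc hwk hw1 hu huw).symm.trans
      (line_eq h.elem hk' hkc' hwk' hw1 hu' huw))
  have hfix : ∀ {u : G}, u ∈ k → oq t K ≤ centralizer ({u} : Set G) := fun hu =>
    hT.trans (centralizer_le (Set.singleton_subset_iff.mpr hu))
  have hfix' : ∀ {u : G}, u ∈ k' → oq t' K ≤ centralizer ({u} : Set G) := fun hu =>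
    hT'.trans (centralizer_le (Set.singleton_subset_iff.mpr hu))
  have hpi : ∀ {u : G}, u ∈ k → u ∉ m → oq t (θ u) ≠ ⊥ := fun hu hum =>
    c.pi_of_fixed (hk hu) hum ht (by rw [inf_eq_left.mpr (hfix hu)]; exact hTne)
  have hpi' : ∀ {u : G}, u ∈ k' → u ∉ m → oq t' (θ u) ≠ ⊥ := fun hu hum =>
    c.pi_of_fixed (hk' hu) hum ht' (by rw [inf_eq_left.mpr (hfix' hu)]; exact hTne')
  obtain ⟨e, hek, hew, he1, hepi, z₀, hz₀, hUz⟩ : ∃ e ∈ k, e ∉ zpowers w ∧ e ≠ 1 ∧
      oq t (θ e) ≠ ⊥ ∧ ∃ z₀ ∈ A, ¬ oq t (θ e) ≤ centralizer ({z₀} : Set G) := by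
    -- a core fixed by an element moves with the core of `K`
    have hmoves : ∀ {u v : G}, u ∈ k → u ≠ 1 → v ∈ A →
        (∀ s : ℕ, s.Prime → t ≠ s → oq t K ≤ centralizer (oq s (θ u) : Set G)) →
        ¬ oq t K ≤ centralizer ({v} : Set G) → ¬ oq t (θ u) ≤ centralizer ({v} : Set G) := by
      intro u v hu hu1 hv hcent hTv hUv
      have hTu : oq t K ≤ θ u := le_theta_of_centralizes (mem_oq c.top.1 t) (hk hu) hu1 (hfix hu)
      haveI := (theta_mem_family h.functor (hk hu) hu1).1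
      have hDT : ⁅oq t K, zpowers v⁆ ≤ oq t K :=
        comm_le_self (le_normalizer_oq_of (fam_norm c.top.1) t hv)
      have hD : ⁅oq t K, zpowers v⁆ ≤ oq t (θ u) := by
        refine le_oq_of_centralizes (hDT.trans hTu) ((oq_isPGroup t K).to_le hDT) fun s hs => ?_
        by_cases hst : t = s
        · subst hst
          exact comm_le_centralizer (mem_centralizer_of_le hUv) (hTu.trans (le_normalizer_oq t _))
        · exact hDT.trans (hcent s hs hst)
      refine comm_ne_bot hTv ?_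
      rw [← comm_idem h.toSetup (mem_oq c.top.1 t) hv, comm_eq_bot_iff]
      exact hD.trans hUv
    by_cases hta : oq t (θ a) = ⊥
    · have hkm : k ≠ m := fun e' => hzk (e' ▸ hz)
      obtain ⟨x, hxk, y, hyk, hxm, hym, hyx⟩ := c.two_points hk hkc hkm
      obtain ⟨e, hek, hem, hew⟩ : ∃ e ∈ k, e ∉ m ∧ e ∉ zpowers w := by
        by_cases hxw : x ∈ zpowers w
        · exact ⟨y, hyk, hym, fun hyw => hyx ((zpowers_eq_of_mem h.elem hwA hxw
            (fun e' => hxm (e' ▸ one_mem _))).symm ▸ hyw)⟩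
        · exact ⟨x, hxk, hxm, hxw⟩
      have he1 : e ≠ 1 := fun e' => hem (e' ▸ one_mem _)
      refine ⟨e, hek, hew, he1, hpi hek hem, a, c.mem, hmoves hek he1 c.mem
        (fun s hs hts => c.moved_centralizes (hk hek) hem ht hta (hfix hek) hs hts) fun hle => hTne ?_⟩
      rw [← c.fpf_a ht hta, inf_eq_left.mpr hle]
    · have hak : a ∈ k := by
        by_contra hak
        exact hTz (le_centralizer_of_line h.toSetup hk hkc c.mem hak hT
          (core_centralizes h c.mem c.ne ht hta (mem_oq c.top.1 t) (oq_isPGroup t K)) (c.line hz))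
      refine ⟨a, hak, fun haw => hwm (zpowers_le.mpr c.a_mem
        ((zpowers_eq_of_mem h.elem hwA haw c.ne).ge (mem_zpowers w))), c.ne, hta, z, c.line hz,
        hmoves hak c.ne (c.line hz) (fun s hs hts => ?_) hTz⟩
      exact (le_inf le_rfl (le_theta_of_centralizes (mem_oq c.top.1 t) c.mem c.ne (hfix hak))).trans
        (c.inter_le_centralizer ht hs hts)
  have heA := hk hek
  have hkm' : k' ≠ m := fun e' => hzk' (e' ▸ hz')
  obtain ⟨y, hyk, hym, hyw⟩ : ∃ y ∈ k', y ∉ m ∧ y ∉ zpowers w := by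
    obtain ⟨x, hxk, y, hyk, hxm, hym, hyx⟩ := c.two_points hk' hkc' hkm'
    by_cases hxw : x ∈ zpowers w
    · exact ⟨y, hyk, hym, fun hyw => hyx ((zpowers_eq_of_mem h.elem hwA hxw
        (fun e' => hxm (e' ▸ one_mem _))).symm ▸ hyw)⟩
    · exact ⟨x, hxk, hxm, hxw⟩
  have hy1 : y ≠ 1 := fun e' => hym (e' ▸ one_mem _)
  have hTew := theta_mem_family h.functor heA he1
  have hTw := theta_mem_family h.functor hwA hw1
  set U := oq t (θ e) with hU
  set R := oq t' (θ w) with hR
  have hUf : U ∈ Fam := mem_oq hTew t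
  have hRf : R ∈ Fam := mem_oq hTw t'
  have hRy : R ≤ centralizer ({y} : Set G) :=
    core_centralizes h (hk' hyk) hy1 ht' (hpi' hyk hym) hRf (oq_isPGroup t' _)
  have hUw : U ≤ centralizer ({w} : Set G) :=
    core_centralizes h hwA hw1 ht (hpi hwk hwm) hUf (oq_isPGroup t _)
  have hUθ : U ≤ θ w := le_theta_of_centralizes hUf hwA hw1 hUw
  have hUe : U ≤ centralizer ({e} : Set G) :=
    (oq_le t _).trans (theta_le_centralizer h.toSetup heA he1)
  have hUk : U ≤ centralizer (k : Set G) :=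
    line_eq h.elem hk hkc hwk hw1 hek hew ▸ le_centralizer_pair hUw hUe
  have hyk' : y ∉ k := fun hy => hyw (honly y hy hyk)
  have hZ1 : U ⊓ centralizer (R : Set G) ≠ ⊥ := by
    refine ne_bot_of_le_ne_bot (comm_ne_bot fun hUy => hUz
      (le_centralizer_of_line h.toSetup hk hkc (hk' hyk) hyk' hUk hUy hz₀))
      (le_inf (comm_le_self (fam_norm hUf (hk' hyk))) ?_)
    exact comm_le_centralizer (mem_centralizer_of_le hRy) (hUθ.trans (le_normalizer_oq t' _))
  have hZA : A ≤ normalizer ((U ⊓ centralizer (R : Set G) : Subgroup G) : Set G) :=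
    le_normalizer_inf (fam_norm hUf) ((fam_norm hRf).trans (normalizer_le_normalizer_centralizer_set _))
  have hZn : θ e ≤ normalizer ((U ⊓ centralizer (R : Set G) : Subgroup G) : Set G) := by
    rw [← Core.commutator_sup_centralizer (A := zpowers w) (zpowers_le.mpr (fam_norm hTew hwA))
      (by rw [Nat.card_zpowers]; exact coprime_orderOf h.toSetup hTew hwA) (Or.inl inferInstance)]
    refine sup_le ?_ ?_
    · exact (comm_le_centralizer (mem_centralizer_of_le hUw) (le_normalizer_oq t _)).trans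
        ((centralizer_le (SetLike.coe_subset_coe.mpr inf_le_left)).trans (centralizer_le_normalizer _))
    · rw [centralizer_zpowers]
      intro g hg
      exact inf_normalizer_le_normalizer_inf ⟨le_normalizer_oq t _ hg.1,
        normalizer_le_normalizer_centralizer_set _
          (le_normalizer_oq t' _ (fam_fix hTew hwA hw1 hg))⟩
  have hRe : R ≤ θ e := le_top_of_normalizes h (all_tops h heA he1)
    (family_of_le hUf inf_le_left hZA) hZ1 hZn hRf
    ((le_centralizer_iff.mp inf_le_right).trans (centralizer_le_normalizer _))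
  have hRk : R ≤ centralizer (k' : Set G) := line_eq h.elem hk' hkc' hwk' hw1 hyk hyw ▸
    le_centralizer_pair ((oq_le t' _).trans (theta_le_centralizer h.toSetup hwA hw1)) hRy
  have hRa : R ≤ centralizer ({a} : Set G) := le_centralizer_of_line h.toSetup hk' hkc' heA
    (fun he' => hew (honly e hek he')) hRk
    (hRe.trans (theta_le_centralizer h.toSetup heA he1)) c.mem
  -- but `R` is moved by `a`
  haveI := hTw.1
  have hT'w : oq t' K ≤ θ w := le_theta_of_centralizes (mem_oq c.top.1 t') hwA hw1 (hfix' hwk')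
  refine hTne' ?_
  rw [← c.fpf_a ht' hta', eq_comm, inf_eq_left]
  refine (le_oq_of_centralizes hT'w (oq_isPGroup t' K) fun s hs => ?_).trans hRa
  by_cases hst : t' = s
  · subst hst
    rw [← comm_eq_self h.toSetup (mem_oq c.top.1 t') c.mem (c.fpf_a ht' hta')]
    exact comm_le_centralizer (mem_centralizer_of_le hRa) (hT'w.trans (le_normalizer_oq t' _))
  · exact c.moved_centralizes hwA hwm ht' hta' (hfix' hwk') hs hst

theorem contradiction : False := by
  have h := c.hyp
  haveI := c.top.1.1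
  obtain ⟨b, hb, hbm⟩ := exists_not_mem_line h.toSetup c.card
  have hb1 : b ≠ 1 := fun e' => hbm (e' ▸ one_mem _)
  have hab : a ∉ zpowers b := fun ha' => hbm
    (zpowers_le.mpr c.a_mem ((zpowers_eq_of_mem h.elem hb ha' c.ne).ge (mem_zpowers b)))
  obtain ⟨r, hmov⟩ := exists_moved_core h hb hb1 c.mem hab
  obtain ⟨hRK, hra⟩ := c.moved_pi hb hbm hmov
  have hRa : ¬ oq r K ≤ centralizer ({a} : Set G) := fun hle => hRK (by
    rw [← c.fpf_a hmov.1 hra, inf_eq_left.mpr hle])
  obtain ⟨k, hk, hkc, hak, hRk⟩ := c.exists_fixed_line hmov.1 c.a_mem hRa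
  obtain ⟨c₀, ⟨hc₀k, hc₀m⟩, hc₀1⟩ := lines_meet h.elem h.card hk c.line hkc c.card
  have hc₀A := c.line hc₀m
  have hc₀a : c₀ ∉ zpowers a := fun hh => hak
    (zpowers_le.mpr hc₀k ((zpowers_eq_of_mem h.elem c.mem hh hc₀1).ge (mem_zpowers a)))
  have hKc : K ≤ centralizer ({c₀} : Set G) := by
    refine centralizes_of_centralizes_cores (fam_norm c.top.1 hc₀A)
      (coprime_orderOf h.toSetup c.top.1 hc₀A) fun t ht => mem_centralizer_of_le ?_
    by_cases hTm : oq t K ≤ centralizer (m : Set G)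
    · exact hTm.trans (centralizer_le (Set.singleton_subset_iff.mpr hc₀m))
    obtain ⟨z, hz, hTz⟩ : ∃ z ∈ m, ¬ oq t K ≤ centralizer ({z} : Set G) := by
      by_contra hcon
      push Not at hcon
      exact hTm fun u hu => mem_centralizer_iff.mpr fun z hz =>
        (mem_centralizer_singleton_iff.mp (hcon z hz hu)).symm
    obtain ⟨k', hk', hkc', hzk', hTk'⟩ := c.exists_fixed_line ht hz hTz
    by_cases hkk : k' = k
    · exact hTk'.trans (centralizer_le (Set.singleton_subset_iff.mpr (hkk ▸ hc₀k)))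
    obtain ⟨w, ⟨hwk', hwk⟩, hw1⟩ := lines_meet h.elem h.card hk' hk hkc' hkc
    have hwm : w ∈ m := c.lines_meet_on ht hmov.1 hk' hkc' hk hkc hz hzk' c.a_mem hak hTk' hRk hTz
      hRa hkk hwk' hwk hw1 hra
    have hc₀w : c₀ ∈ zpowers w := by
      by_contra hcw
      exact hak ((line_eq h.elem hk hkc hwk hw1 hc₀k hcw).le
        ((line_eq h.elem c.line c.card hwm hw1 hc₀m hcw).ge c.a_mem))
    exact hTk'.trans (centralizer_le (Set.singleton_subset_iff.mpr (zpowers_le.mpr hwk' hc₀w)))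
  have hKeq : K = θ c₀ := c.top.eq (theta_mem_family h.functor hc₀A hc₀1)
    (le_theta_of_centralizes c.top.1 hc₀A hc₀1 hKc)
  have hA' := theta_mem_family h.functor c.mem c.ne
  haveI := hA'.1
  refine theta_ne h c.mem c.ne hc₀A hc₀a (centralizes_of_centralizes_cores (fam_norm hA' hc₀A)
    (coprime_orderOf h.toSetup hA' hc₀A) fun s hs => mem_centralizer_of_le ?_)
  by_cases hsq : s = q
  · subst hsq
    exact core_centralizes h hc₀A hc₀1 hs (hKeq ▸ c.q_mem) (mem_oq hA' s) (oq_isPGroup s _)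
  · exact (c.cores_le hs hsq).trans hKc

end Corner

/-- There is no minimal counterexample. -/
theorem not_hyp (h : Hyp p A θ) : False := by
  obtain ⟨a, q, m, V, K, c⟩ := exists_corner h
  exact c.contradiction

end CfsgLib.Signalizer.Solv
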