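import Cfsg.Agent.Lib.Signalizer.Solvable.Cores
import Cfsg.Agent.Lib.Core.HallHigman

/-!
Owner: helper11. Flavell's lemma: an invariant `q`-subgroup normalized by the fixed points of an
operator of prime order has its commutator with the operator in `O_q`.
-/

set_option autoImplicit false

namespace CfsgLib.Signalizer.Solv

open Subgroup
open scoped commutatorElement

universe u

/-- Automorphisms as endomorphisms of the additive group. -/
def toEnd (M : Type*) [CommGroup M] : MulAut M →* AddMonoid.End (Additive M) where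
  toFun e := MonoidHom.toAdditive e.toMonoidHom
  map_one' := rfl
  map_mul' _ _ := rfl

variable {G : Type u} [Group G] [Finite G] {p q t : ℕ} [hp : Fact p.Prime] [hq : Fact q.Prime]
  [ht : Fact t.Prime]

omit ht in
theorem comm_centralizes_abelian (hq2 : q ≠ 2) {V P : Subgroup G} {a : G}
    (hVc : IsMulCommutative V) (hV : ¬ p ∣ Nat.card V) (hqV : ¬ q ∣ Nat.card V)
    (hP : IsPGroup q P) (hqp : q ≠ p) (hap : a ^ p = 1) (hPV : P ≤ normalizer (V : Set G))
    (haV : a ∈ normalizer (V : Set G)) (haP : a ∈ normalizer (P : Set G))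
    (hfix : V ⊓ centralizer ({a} : Set G) ≤ centralizer (P : Set G)) :
    ⁅P, zpowers a⁆ ≤ centralizer (V : Set G) := by
  haveI := hVc
  haveI := hP.isNilpotent
  have hsolv : Group.IsSolvable P := inferInstance
  have hcop : (Nat.card P).Coprime (Nat.card V) := coprime_pgroup hP hqV
  have hPcop : (Nat.card P).Coprime p := coprime_pgroup hP fun hd =>
    hqp ((Nat.prime_dvd_prime_iff_eq hq.out hp.out).mp hd)
  set W := ⁅V, P⁆ with hW
  set Z := V ⊓ centralizer (P : Set G) with hZ
  have hWV : W ≤ V := Core.commutator_le_of_normalizes hPV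
  have hdec : W ⊔ Z = V := Core.commutator_sup_centralizer hPV hcop (Or.inl hsolv)
  have hd : Z ⊓ W = ⊥ := Core.abelian_inf_eq_bot hPV hcop
  have hPW : P ≤ normalizer (W : Set G) := normalizer_commutator_ge_right V P
  have haW : a ∈ normalizer (W : Set G) := by
    refine mem_normalizer_of_forall_le fun x hx => ?_
    have hm : W.map (MulAut.conj a).toMonoidHom = W := by
      rw [hW, map_commutator, LocalEvenB.map_conj_eq_self_iff_mem_normalizer.mpr haV,
        LocalEvenB.map_conj_eq_self_iff_mem_normalizer.mpr haP]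
    exact hm ▸ mem_map_of_mem (MulAut.conj a).toMonoidHom hx
  suffices hYW : ⁅P, zpowers a⁆ ≤ centralizer (W : Set G) by
    rw [← hdec, LocalEvenB.centralizer_sup]
    exact le_inf hYW ((commutator_le_of_normalizes_right haP).trans
      (le_centralizer_iff.mp inf_le_right))
  haveI : IsMulCommutative W := ⟨⟨fun x y => Subtype.ext
    (congrArg (fun z : V => (z : G)) (hVc.is_comm.comm ⟨x, hWV x.2⟩ ⟨y, hWV y.2⟩))⟩⟩
  let _ : CommGroup W := { (inferInstance : Group W) with mul_comm := fun x y => mul_comm' x y }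
  let φ : normalizer (W : Set G) →* MulAut W := W.normalizerMonoidHom
  let R : Subgroup (MulAut W) := (P.subgroupOf (normalizer (W : Set G))).map φ
  let σ : MulAut W := φ ⟨a, haW⟩
  have hσ : σ ∈ normalizer (R : Set (MulAut W)) := by
    refine le_normalizer_map φ ⟨⟨a, haW⟩, ?_, rfl⟩
    rw [← subgroupOf_normalizer_eq hPW]
    exact haP
  let θ : MulAut R := R.normalizerMonoidHom ⟨σ, hσ⟩
  have hσp : σ ^ p = 1 := by
    rw [← map_pow, show (⟨a, haW⟩ : normalizer (W : Set G)) ^ p = 1 from Subtype.ext hap, map_one]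
  have hθp : θ ^ p = 1 := by
    rw [← map_pow, show (⟨σ, hσ⟩ : normalizer (R : Set (MulAut W))) ^ p = 1 from Subtype.ext hσp,
      map_one]
  have hRq : IsPGroup q R := hP.comap_subtype.map φ
  have hM : Nat.card (Additive W) = Nat.card W := rfl
  have key := Core.HH.fixed_of_fpf_module (q := p) (Y := R) (M := Additive W)
    ((toEnd W).comp R.subtype) θ (toEnd W σ) hθp (by rw [← map_pow, hσp, map_one]) ?_ ?_ ?_
    (F := ⊤) ?_ (fun _ _ => mem_top _) ?_ ?_ ?_ ?_
  · -- the translation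
    refine commutator_le.mpr fun x hx b hb => mem_centralizer_iff.mpr fun w hw => ?_
    obtain ⟨j, rfl⟩ := mem_zpowers_iff.mp hb
    let X : normalizer (W : Set G) := ⟨x, hPW hx⟩
    let A : normalizer (W : Set G) := ⟨a, haW⟩
    have hc : φ A * φ X * (φ A)⁻¹ = φ X :=
      congrArg Subtype.val (key ⟨φ X, ⟨X, hx, rfl⟩⟩ (mem_top _))
    have hc' : Commute (φ A) (φ X) := by
      rw [mul_inv_eq_iff_eq_mul] at hc
      exact hc
    have h1 : φ ⁅X, A ^ j⁆ = 1 := by
      rw [map_commutatorElement, commutatorElement_eq_one_iff_mul_comm, map_zpow]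
      exact ((hc'.zpow_left j).eq).symm
    have h2 := congrArg (fun e : MulAut W => (e ⟨w, hw⟩ : G)) h1
    change ⁅x, a ^ j⁆ * w * ⁅x, a ^ j⁆⁻¹ = w at h2
    rw [mul_inv_eq_iff_eq_mul] at h2
    exact h2.symm
  · intro y m
    show Additive.ofMul (σ ((y : MulAut W) (Additive.toMul m))) =
      Additive.ofMul ((σ * (y : MulAut W) * σ⁻¹) (σ (Additive.toMul m)))
    simp
  · intro m hm
    have hw : (Additive.toMul m : W) = 1 := by
      set w : W := Additive.toMul m
      have h1 : σ w = w := congrArg Additive.toMul hm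
      have h2 : a * (w : G) * a⁻¹ = w := congrArg (fun z : W => (z : G)) h1
      have hwC : (w : G) ∈ centralizer ({a} : Set G) := by
        rw [mem_centralizer_singleton_iff]
        rw [mul_inv_eq_iff_eq_mul] at h2
        exact h2.symm
      exact Subtype.ext (mem_bot.mp (hd.le ⟨⟨hWV w.2, hfix ⟨hWV w.2, hwC⟩⟩, w.2⟩))
    exact congrArg Additive.ofMul hw
  · rw [hM]
    exact (hp.out.coprime_iff_not_dvd.mpr (not_dvd_of_le hV hWV)).symm
  · haveI := hRq.isNilpotent
    exact Group.nilpotent_of_mulEquiv Subgroup.topEquiv.symm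
  · rw [card_top]
    exact coprime_pgroup hRq fun hd => hqp ((Nat.prime_dvd_prime_iff_eq hq.out hp.out).mp hd)
  · rw [card_top, hM]
    exact (coprime_pgroup hRq fun hd => hqV (hd.trans (card_dvd_of_le hWV))).symm
  · intro y _ hy
    refine Subtype.ext (MulEquiv.ext fun w => ?_)
    exact congrArg Additive.toMul (hy (Additive.ofMul w))
  · rintro ⟨h2, -⟩
    rw [card_top] at h2
    obtain ⟨k, hk⟩ := hRq.exists_card_eq
    rw [hk] at h2
    exact hq2 ((Nat.prime_dvd_prime_iff_eq Nat.prime_two hq.out).mp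
      (Nat.prime_two.dvd_of_dvd_pow h2)).symm
where
  /-- The commutator with the operator lies in the group. -/
  commutator_le_of_normalizes_right {P : Subgroup G} {a : G} (haP : a ∈ normalizer (P : Set G)) :
      ⁅P, zpowers a⁆ ≤ P := Core.commutator_le_of_normalizes (zpowers_le.mpr haP)

theorem comm_le_self {P : Subgroup G} {a : G} (haP : a ∈ normalizer (P : Set G)) :
    ⁅P, zpowers a⁆ ≤ P := Core.commutator_le_of_normalizes (zpowers_le.mpr haP)

/-- The fixed points of `a` in a section lift. -/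
theorem exists_fixed_lift {N : Subgroup G} {a k : G} (hap : a ^ p = 1)
    (haN : a ∈ normalizer (N : Set G)) (hN : ¬ p ∣ Nat.card N) (hkN : k ∈ normalizer (N : Set G))
    (hk : k⁻¹ * (a * k * a⁻¹) ∈ N) : ∃ n ∈ N, k * n ∈ centralizer ({a} : Set G) := by
  have hap' : (Nat.card (zpowers a)).Coprime (Nat.card N) := by
    rw [Nat.card_zpowers]
    exact (hp.out.coprime_iff_not_dvd.mpr hN).coprime_dvd_left (orderOf_dvd_of_pow_eq_one hap)
  obtain ⟨n, hn, hnc⟩ := Core.exists_centralizing_in_coset (A := zpowers a) (N := N)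
    (zpowers_le.mpr haN) hap' (Or.inl inferInstance) (k := k) fun b hb => by
      obtain ⟨j, rfl⟩ := mem_zpowers_iff.mp hb
      set π := QuotientGroup.mk' (N.subgroupOf (normalizer (N : Set G)))
      have hc : Commute (π ⟨a, haN⟩) (π ⟨k, hkN⟩) := by
        show _ * _ = _ * _
        rw [← map_mul, ← map_mul]
        refine ((QuotientGroup.eq (s := N.subgroupOf (normalizer (N : Set G)))).mpr ?_).symm
        show (k * a)⁻¹ * (a * k) ∈ N
        have h := (mem_normalizer_iff''.mp haN _).mp hk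
        rwa [show (k * a)⁻¹ * (a * k) = a⁻¹ * (k⁻¹ * (a * k * a⁻¹)) * a by group]
      have h1 := (hc.zpow_left j).eq
      rw [← map_zpow, ← map_mul, ← map_mul] at h1
      have h2 : (k * a ^ j)⁻¹ * (a ^ j * k) ∈ N :=
        (QuotientGroup.eq (s := N.subgroupOf (normalizer (N : Set G)))).mp h1.symm
      have h3 := (mem_normalizer_iff.mp ((normalizer (N : Set G)).zpow_mem haN j) _).mp h2
      rwa [show a ^ j * ((k * a ^ j)⁻¹ * (a ^ j * k)) * (a ^ j)⁻¹ = k⁻¹ * (a ^ j * k * (a ^ j)⁻¹)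
        by group] at h3
  exact ⟨n, hn, centralizer_zpowers a ▸ hnc⟩

theorem comm_centralizes (hq2 : q ≠ 2) (hqp : q ≠ p) (hqt : q ≠ t) : ∀ (n : ℕ) {G : Type u}
    [Group G] [Finite G] {V P : Subgroup G} {a : G}, Nat.card V = n → IsPGroup t V →
    ¬ p ∣ Nat.card V → IsPGroup q P → a ^ p = 1 → P ≤ normalizer (V : Set G) →
    a ∈ normalizer (V : Set G) → a ∈ normalizer (P : Set G) →
    V ⊓ centralizer ({a} : Set G) ≤ centralizer (P : Set G) →
    ⁅P, zpowers a⁆ ≤ centralizer (V : Set G) := by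
  intro n
  induction n using Nat.strong_induction_on with
  | _ n ih =>
    intro G _ _ V P a hn hVt hV hP hap hPV haV haP hfix
    haveI := hVt.isNilpotent
    have hqV : ¬ q ∣ Nat.card V := fun hd => by
      obtain ⟨k, hk⟩ := hVt.exists_card_eq
      rw [hk] at hd
      exact hqt ((Nat.prime_dvd_prime_iff_eq hq.out ht.out).mp (hq.out.dvd_of_dvd_pow hd))
    by_cases hVb : V = ⊥
    · rw [hVb]
      exact fun x _ => mem_centralizer_iff.mpr fun y hy => by rw [mem_bot.mp hy, one_mul, mul_one]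
    by_cases hab : ⁅V, V⁆ = ⊥
    · exact comm_centralizes_abelian hq2
        (le_centralizer_iff_isMulCommutative.mp (commutator_eq_bot_iff_le_centralizer.mp hab))
        hV hqV hP hqp hap hPV haV haP hfix
    set D := ⁅V, V⁆ with hD
    have hDlt : D < V := Core.commutator_self_lt inferInstance hVb
    have hnorm : ∀ {g : G}, g ∈ normalizer (V : Set G) → g ∈ normalizer (D : Set G) := fun {g} hg =>
      mem_normalizer_of_forall_le fun x hx => by
        have hm : D.map (MulAut.conj g).toMonoidHom = D := by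
          rw [hD, map_commutator, LocalEvenB.map_conj_eq_self_iff_mem_normalizer.mpr hg]
        exact hm ▸ mem_map_of_mem (MulAut.conj g).toMonoidHom hx
    have hcardlt : ∀ {W : Subgroup G}, W < V → Nat.card W < n := fun hW =>
      hn ▸ Set.Finite.card_lt_card (Set.toFinite _) (SetLike.coe_ssubset_coe.2 hW)
    have hYD := ih _ (hcardlt hDlt) (V := D) (P := P) rfl (hVt.to_le hDlt.le)
      (not_dvd_of_le hV hDlt.le) hP hap (fun x hx => hnorm (hPV hx)) (hnorm haV) haP
      ((inf_le_inf_right _ hDlt.le).trans hfix)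
    -- the quotient by `D`
    set N := normalizer (D : Set G)
    haveI : (D.subgroupOf N).Normal := normal_in_normalizer
    let π := QuotientGroup.mk' (D.subgroupOf N)
    have hVN : V ≤ N := fun v hv => hnorm (le_normalizer hv)
    have hPN : P ≤ N := fun v hv => hnorm (hPV hv)
    have haN : a ∈ N := hnorm haV
    set Vb := (V.subgroupOf N).map π with hVbd
    set Pb := (P.subgroupOf N).map π with hPbd
    have hVbt : IsPGroup t Vb := hVt.comap_subtype.map π
    have hVdvd : Nat.card Vb ∣ Nat.card V :=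
      ((V.subgroupOf N).card_map_dvd π).trans (Nat.card_congr (subgroupOfEquivOfLe hVN).toEquiv).dvd
    have hlt : Nat.card Vb < n := by
      refine lt_of_le_of_ne (hn ▸ Nat.le_of_dvd Nat.card_pos hVdvd) fun he => ?_
      refine hab ((eq_bot_iff_forall _).mpr fun d hd => ?_)
      have hbij := (Nat.bijective_iff_surjective_and_card (f := π.subgroupMap (V.subgroupOf N))).mpr
        ⟨π.subgroupMap_surjective _, by
          rw [Nat.card_congr (subgroupOfEquivOfLe hVN).toEquiv, hn]; exact he.symm⟩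
      exact congrArg (fun z : V.subgroupOf N => ((z : N) : G)) (hbij.1
        (a₁ := ⟨⟨d, hVN (hDlt.le hd)⟩, hDlt.le hd⟩) (a₂ := 1)
        (Subtype.ext ((QuotientGroup.eq_one_iff _).mpr hd)))
    have hπn : ∀ {X : Subgroup G} {g : G} (hg : g ∈ N), X ≤ N → g ∈ normalizer (X : Set G) →
        π ⟨g, hg⟩ ∈ normalizer ((X.subgroupOf N).map π : Set (N ⧸ D.subgroupOf N)) := by
      intro X g hg hX hgX
      refine le_normalizer_map π ⟨⟨g, hg⟩, ?_, rfl⟩
      rw [← subgroupOf_normalizer_eq hX]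
      exact hgX
    have hYb := ih _ hlt (V := Vb) (P := Pb) (a := π ⟨a, haN⟩) rfl hVbt
      (fun hd => hV (hd.trans hVdvd)) (hP.comap_subtype.map π)
      (by rw [← map_pow, show (⟨a, haN⟩ : N) ^ p = 1 from Subtype.ext hap, map_one])
      (by rintro _ ⟨g, hg, rfl⟩; exact hπn g.2 hVN (hPV hg)) (hπn haN hVN haV) (hπn haN hPN haP)
      (by
        rintro _ ⟨⟨v, hv, rfl⟩, hvc⟩
        have hk : (v : G)⁻¹ * (a * v * a⁻¹) ∈ D := by
          refine (QuotientGroup.eq_one_iff (N := D.subgroupOf N)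
            (v⁻¹ * (⟨a, haN⟩ * v * ⟨a, haN⟩⁻¹))).mp ?_
          show π _ = 1
          rw [map_mul, map_mul, map_mul, map_inv, map_inv,
            ← mem_centralizer_singleton_iff.mp hvc, mul_inv_cancel_right, inv_mul_cancel]
        obtain ⟨d, hd, hc⟩ := exists_fixed_lift (p := p) hap haN (not_dvd_of_le hV hDlt.le) v.2 hk
        have hm := hfix ⟨mul_mem hv (hDlt.le hd), hc⟩
        rw [mem_centralizer_iff]
        rintro _ ⟨x, hx, rfl⟩
        have h := congrArg π (Subtype.ext (a1 := x * (v * ⟨d, hVN (hDlt.le hd)⟩))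
          (a2 := v * ⟨d, hVN (hDlt.le hd)⟩ * x) (mem_centralizer_iff.mp hm x hx))
        have hd1 : π ⟨d, hVN (hDlt.le hd)⟩ = 1 := (QuotientGroup.eq_one_iff _).mpr hd
        simp only [map_mul, hd1, mul_one] at h
        exact h)
    intro y hy
    refine mem_centralizer_iff.mpr fun v hv => ?_
    have hyP : y ∈ P := comm_le_self haP hy
    have hyb : π ⟨y, hPN hyP⟩ ∈ ⁅Pb, zpowers (π ⟨a, haN⟩)⁆ := by
      have hle : ⁅P.subgroupOf N, zpowers (⟨a, haN⟩ : N)⁆.map π ≤ ⁅Pb, zpowers (π ⟨a, haN⟩)⁆ := by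
        rw [map_commutator, MonoidHom.map_zpowers]
      refine hle ⟨⟨y, hPN hyP⟩, ?_, rfl⟩
      have he : ⁅P.subgroupOf N, zpowers (⟨a, haN⟩ : N)⁆.map N.subtype = ⁅P, zpowers a⁆ := by
        rw [map_commutator, map_subgroupOf_eq_of_le hPN, MonoidHom.map_zpowers]
        rfl
      obtain ⟨z, hz, hze⟩ := he.ge hy
      exact (show z = ⟨y, hPN hyP⟩ from Subtype.ext hze) ▸ hz
    set z := v⁻¹ * (y * v * y⁻¹) with hz
    have hzD : z ∈ D := by
      refine (QuotientGroup.eq_one_iff (N := D.subgroupOf N) ((⟨v, hVN hv⟩ : N)⁻¹ *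
        (⟨y, hPN hyP⟩ * ⟨v, hVN hv⟩ * ⟨y, hPN hyP⟩⁻¹))).mp ?_
      show π _ = 1
      rw [map_mul, map_mul, map_mul, map_inv, map_inv,
        ← mem_centralizer_iff.mp (hYb hyb) _ ⟨⟨v, hVN hv⟩, hv, rfl⟩, mul_inv_cancel_right,
        inv_mul_cancel]
    obtain ⟨j, hj⟩ := hP ⟨y, hyP⟩
    have h1 : z = 1 := OddLocal.shift_eq_one (a := y) (h := v) (z := z)
      (by rw [hz, mul_inv_cancel_left]) (mem_centralizer_iff.mp (hYD hy) z hzD).symm
      (congrArg (fun w : P => (w : G)) hj)
      (congrArg (fun w : V => (w : G)) (pow_card_eq_one' (G := V) (x := ⟨z, hDlt.le hzD⟩)))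
      (Nat.Coprime.pow_left _ (hq.out.coprime_iff_not_dvd.mpr hqV))
    rw [hz, inv_mul_eq_one, eq_mul_inv_iff_mul_eq] at h1
    exact h1

/-- **Flavell's lemma.** -/
theorem flavell (hq2 : q ≠ 2) (hqp : q ≠ p) {H P : Subgroup G} [Group.IsSolvable H] {a : G}
    (hap : a ^ p = 1) (hH : ¬ p ∣ Nat.card H) (haH : a ∈ normalizer (H : Set G)) (hPH : P ≤ H)
    (hP : IsPGroup q P) (haP : a ∈ normalizer (P : Set G))
    (hC : H ⊓ centralizer ({a} : Set G) ≤ normalizer (P : Set G)) :
    ⁅P, zpowers a⁆ ≤ oq q H := by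
  set R := oq q H with hR
  set N := normalizer (R : Set G)
  haveI : (R.subgroupOf N).Normal := normal_in_normalizer
  let π := QuotientGroup.mk' (R.subgroupOf N)
  have hHN : H ≤ N := le_normalizer_oq q H
  have haN : a ∈ N := normalizer_le_normalizer_oq q H haH
  set Hb := (H.subgroupOf N).map π with hHb
  set Pb := (P.subgroupOf N).map π with hPb
  haveI : Group.IsSolvable (H.subgroupOf N) :=
    Core.isSolvable_subgroupOf ‹_›
  haveI : Group.IsSolvable Hb := Core.isSolvable_map π inferInstance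
  have hHbd : Nat.card Hb ∣ Nat.card H :=
    ((H.subgroupOf N).card_map_dvd π).trans (Nat.card_congr (subgroupOfEquivOfLe hHN).toEquiv).dvd
  have hπn : ∀ {X : Subgroup G} {g : G} (hg : g ∈ N), X ≤ N → g ∈ normalizer (X : Set G) →
      π ⟨g, hg⟩ ∈ normalizer ((X.subgroupOf N).map π : Set (N ⧸ R.subgroupOf N)) := by
    intro X g hg hX hgX
    refine le_normalizer_map π ⟨⟨g, hg⟩, ?_, rfl⟩
    rw [← subgroupOf_normalizer_eq hX]
    exact hgX
  have hPN : P ≤ N := hPH.trans hHN
  have hbot : oq q Hb = ⊥ := by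
    refine (eq_bot_iff_forall _).mpr fun x hx => ?_
    obtain ⟨⟨h, hhN⟩, hh, rfl⟩ := oq_le q Hb hx
    refine (QuotientGroup.eq_one_iff _).mpr ?_
    let S : Subgroup G := (((oq q Hb).comap π).map N.subtype) ⊓ H
    have hS : S ≤ R := by
      refine le_oq inf_le_right ?_ fun g hg => mem_normalizer_of_forall_le ?_
      · refine IsPGroup.to_le ?_ inf_le_left
        refine IsPGroup.map ?_ _
        refine (oq_isPGroup q Hb).comap_of_ker_isPGroup π ?_
        rw [QuotientGroup.ker_mk']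
        exact (oq_isPGroup q H).comap_subtype
      · rintro _ ⟨⟨s, hs, rfl⟩, hsH⟩
        refine ⟨⟨⟨g, hHN hg⟩ * s * ⟨g, hHN hg⟩⁻¹, ?_, rfl⟩,
          H.mul_mem (H.mul_mem hg hsH) (H.inv_mem hg)⟩
        show π _ ∈ oq q Hb
        rw [map_mul, map_mul, map_inv]
        exact (mem_normalizer_iff.mp
          (le_normalizer_oq q Hb (mem_map_of_mem π (show (⟨g, hHN hg⟩ : N) ∈ H.subgroupOf N from hg)))
          _).mp hs
    exact hS ⟨⟨⟨h, hhN⟩, hx, rfl⟩, hh⟩
  have hcent : ∀ s : ℕ, s.Prime → ⁅Pb, zpowers (π ⟨a, haN⟩)⁆ ≤ centralizer (oq s Hb : Set _) := by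
    intro s hs
    haveI := Fact.mk hs
    by_cases hsq : s = q
    · subst hsq
      rw [hbot]
      exact fun x _ => mem_centralizer_iff.mpr fun y hy => by rw [mem_bot.mp hy, one_mul, mul_one]
    have hPbn : Pb ≤ normalizer (oq s Hb : Set _) :=
      (map_mono (comap_mono hPH)).trans (le_normalizer_oq s Hb)
    refine comm_centralizes hq2 hqp (Ne.symm hsq) _ rfl (oq_isPGroup s Hb)
      (fun hd => hH ((hd.trans (card_dvd_of_le (oq_le s Hb))).trans hHbd)) (hP.comap_subtype.map π)
      (by rw [← map_pow, show (⟨a, haN⟩ : N) ^ p = 1 from Subtype.ext hap, map_one]) hPbn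
      (le_normalizer_oq_of (zpowers_le.mpr (hπn haN hHN haH)) s (mem_zpowers _))
      (hπn haN hPN haP) ?_
    have hfixn : ∀ x ∈ oq s Hb, x ∈ centralizer ({π ⟨a, haN⟩} : Set _) →
        x ∈ normalizer (Pb : Set _) := by
      intro x hx hxc
      obtain ⟨h, hh, rfl⟩ := oq_le s Hb hx
      have hk : (h : G)⁻¹ * (a * h * a⁻¹) ∈ R := by
        refine (QuotientGroup.eq_one_iff (N := R.subgroupOf N)
          (h⁻¹ * (⟨a, haN⟩ * h * ⟨a, haN⟩⁻¹))).mp ?_
        show π _ = 1
        rw [map_mul, map_mul, map_mul, map_inv, map_inv,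
          ← mem_centralizer_singleton_iff.mp hxc, mul_inv_cancel_right, inv_mul_cancel]
      obtain ⟨r, hr, hc⟩ := exists_fixed_lift (p := p) hap haN (not_dvd_of_le hH (oq_le q H)) h.2 hk
      have hn := hπn (X := P) (hHN (mul_mem hh (oq_le q H hr))) hPN
        (hC ⟨mul_mem hh (oq_le q H hr), hc⟩)
      have hr1 : π ⟨r, hHN (oq_le q H hr)⟩ = 1 := (QuotientGroup.eq_one_iff _).mpr hr
      have he : (⟨(h : G) * r, hHN (mul_mem hh (oq_le q H hr))⟩ : N) =
          h * ⟨r, hHN (oq_le q H hr)⟩ := rfl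
      change π (⟨(h : G) * r, hHN (mul_mem hh (oq_le q H hr))⟩ : N) ∈ _ at hn
      rw [he, map_mul, hr1, mul_one] at hn
      exact hn
    refine le_centralizer_of_normalizes (fun x hx => hfixn x hx.1 hx.2) ?_
      (inf_eq_bot_of_coprime
        (coprime_pgroups hsq ((oq_isPGroup s Hb).to_le inf_le_left) (hP.comap_subtype.map π)))
    intro y hy
    refine mem_normalizer_of_forall_le fun x hx => ?_
    have hz : x⁻¹ * (y * x * y⁻¹) ∈ oq s Hb ⊓ Pb := by
      refine ⟨(oq s Hb).mul_mem ((oq s Hb).inv_mem hx.1)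
        ((mem_normalizer_iff.mp (hPbn hy) x).mp hx.1), ?_⟩
      have h := Pb.mul_mem ((mem_normalizer_iff''.mp (hfixn x hx.1 hx.2) y).mp hy) (Pb.inv_mem hy)
      rwa [show x⁻¹ * y * x * y⁻¹ = x⁻¹ * (y * x * y⁻¹) by group] at h
    have hbot' : oq s Hb ⊓ Pb = ⊥ :=
      inf_eq_bot_of_coprime (coprime_pgroups hsq (oq_isPGroup s Hb) (hP.comap_subtype.map π))
    rw [hbot', mem_bot, inv_mul_eq_one] at hz
    rw [← hz]
    exact hx
  have hPbH : ⁅Pb, zpowers (π ⟨a, haN⟩)⁆ ≤ Hb :=
    (Core.commutator_le_of_normalizes (zpowers_le.mpr (hπn haN hPN haP))).trans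
      (map_mono (comap_mono hPH))
  have hY := le_oq_of_centralizes (q := q) hPbH ((hP.comap_subtype.map π).to_le
    (Core.commutator_le_of_normalizes (zpowers_le.mpr (hπn haN hPN haP)))) hcent
  rw [hbot] at hY
  intro y hy
  have he : ⁅P.subgroupOf N, zpowers (⟨a, haN⟩ : N)⁆.map N.subtype = ⁅P, zpowers a⁆ := by
    rw [map_commutator, map_subgroupOf_eq_of_le hPN, MonoidHom.map_zpowers]
    rfl
  obtain ⟨z, hz, rfl⟩ := he.ge hy
  refine (QuotientGroup.eq_one_iff (N := R.subgroupOf N) z).mp (mem_bot.mp (hY ?_))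
  have := mem_map_of_mem π hz
  rwa [map_commutator, MonoidHom.map_zpowers] at this

end CfsgLib.Signalizer.Solv
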