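import Cfsg.Agent.Lib.Signalizer.Solvable.Cores
import Cfsg.Agent.Lib.LocalEven.Generation

/-!
Owner: helper11. Generation of commutators by fixed points, and the geometry of an elementary
abelian group of order `p ^ 3`.
-/

set_option autoImplicit false

namespace CfsgLib.Signalizer.Solv

open Subgroup
open scoped commutatorElement

variable {G : Type*} [Group G] [Finite G] {p : ℕ} [hp : Fact p.Prime]

section Geometry

variable {A : Subgroup G}

theorem zpowers_eq_of_mem (hA : Cfsg.IsElementaryAbelian p A) {g h : G} (hg : g ∈ A) (hh : h ∈ zpowers g)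
    (hh1 : h ≠ 1) : zpowers h = zpowers g := by
  have hg1 : g ≠ 1 := by
    rintro rfl
    rw [zpowers_one_eq_bot, mem_bot] at hh
    exact hh1 hh
  refine eq_of_le_of_card_ge (zpowers_le.mpr hh) ?_
  rw [Nat.card_zpowers, Nat.card_zpowers, elementary_orderOf hA hg hg1,
    elementary_orderOf hA (zpowers_le.mpr hg hh) hh1]

theorem centralizer_eq_of_mem (hA : Cfsg.IsElementaryAbelian p A) {g h : G} (hg : g ∈ A)
    (hh : h ∈ zpowers g) (hh1 : h ≠ 1) : centralizer ({h} : Set G) = centralizer ({g} : Set G) := by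
  rw [← centralizer_zpowers, ← centralizer_zpowers, zpowers_eq_of_mem hA hg hh hh1]

theorem le_normalizer_of_le_elementary (hA : Cfsg.IsElementaryAbelian p A) {U V : Subgroup G}
    (hU : U ≤ A) (hV : V ≤ A) : U ≤ normalizer (V : Set G) := by
  refine le_trans ?_ (centralizer_le_normalizer _)
  intro u hu
  exact mem_centralizer_iff.mpr fun v hv => elementary_comm hA (hV hv) (hU hu)

/-- The subgroup of order `p ^ 2` generated by two independent elements. -/
theorem card_pair (hA : Cfsg.IsElementaryAbelian p A) {a b : G} (ha : a ∈ A) (ha1 : a ≠ 1)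
    (hb : b ∈ A) (hba : b ∉ zpowers a) : Nat.card ↥(zpowers a ⊔ zpowers b) = p ^ 2 := by
  have hb1 : b ≠ 1 := fun e => hba (e ▸ one_mem _)
  have h := Core.card_sup_mul_card_inf (zpowers a) (zpowers b)
    (le_normalizer_of_le_elementary hA (zpowers_le.mpr ha) (zpowers_le.mpr hb))
  have hd : zpowers a ⊓ zpowers b = ⊥ := by
    refine (eq_bot_iff_forall _).mpr fun x hx => ?_
    by_contra hx1
    exact hba ((zpowers_eq_of_mem hA ha hx.1 hx1).le
      ((zpowers_eq_of_mem hA hb hx.2 hx1).ge (mem_zpowers b)))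
  rw [hd, card_bot, mul_one, Nat.card_zpowers, Nat.card_zpowers, elementary_orderOf hA ha ha1,
    elementary_orderOf hA hb hb1] at h
  rw [h, sq]

theorem exists_not_mem_zpowers (hA : Cfsg.IsElementaryAbelian p A) {B : Subgroup G} (hBA : B ≤ A)
    (hB : p ^ 2 ≤ Nat.card B) (g : G) (hg : g ∈ A) : ∃ x ∈ B, x ∉ zpowers g := by
  by_contra hcon
  push Not at hcon
  have h1 : Nat.card B ≤ Nat.card (zpowers g) := card_le_of_le (show B ≤ zpowers g from hcon)
  rw [Nat.card_zpowers] at h1
  have h2 : orderOf g ≤ p := Nat.le_of_dvd hp.out.pos (orderOf_dvd_of_pow_eq_one (hA.2 g hg))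
  have := hp.out.two_le
  nlinarith

/-- Two lines meet. -/
theorem lines_meet (hA : Cfsg.IsElementaryAbelian p A) (hA3 : Nat.card A = p ^ 3) {B B' : Subgroup G}
    (hB : B ≤ A) (hB' : B' ≤ A) (h : Nat.card B = p ^ 2) (h' : Nat.card B' = p ^ 2) :
    ∃ x ∈ B ⊓ B', x ≠ 1 := by
  by_contra hcon
  push Not at hcon
  have h1 := Core.card_sup_mul_card_inf B B' (le_normalizer_of_le_elementary hA hB hB')
  rw [(eq_bot_iff_forall _).mpr hcon, card_bot, mul_one, h, h'] at h1
  have h2 : Nat.card ↥(B ⊔ B') ≤ p ^ 3 := hA3 ▸ card_le_of_le (sup_le hB hB')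
  rw [h1, ← pow_add] at h2
  exact absurd ((Nat.pow_le_pow_iff_right hp.out.one_lt).mp h2) (by norm_num)

/-- A line containing two independent elements of a line is that line. -/
theorem line_eq (hA : Cfsg.IsElementaryAbelian p A) {B : Subgroup G} (hB : B ≤ A)
    (h : Nat.card B = p ^ 2) {a b : G} (ha : a ∈ B) (ha1 : a ≠ 1) (hb : b ∈ B)
    (hba : b ∉ zpowers a) : zpowers a ⊔ zpowers b = B :=
  eq_of_le_of_card_ge (sup_le (zpowers_le.mpr ha) (zpowers_le.mpr hb))
    (h ▸ (card_pair hA (hB ha) ha1 (hB hb) hba).ge)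

omit [Finite G] hp in
theorem le_centralizer_pair {X : Subgroup G} {a b : G} (ha : X ≤ centralizer ({a} : Set G))
    (hb : X ≤ centralizer ({b} : Set G)) :
    X ≤ centralizer ((zpowers a ⊔ zpowers b : Subgroup G) : Set G) := by
  rw [le_centralizer_iff]
  refine sup_le (zpowers_le.mpr ?_) (zpowers_le.mpr ?_) <;> rw [mem_centralizer_iff]
  · exact fun x hx => mem_centralizer_singleton_iff.mp (ha hx)
  · exact fun x hx => mem_centralizer_singleton_iff.mp (hb hx)

/-- A subgroup not centralised by `a` has a line of fixed points not centralised by `a`. -/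
theorem exists_weight_line (hA : Cfsg.IsElementaryAbelian p A) (hA3 : Nat.card A = p ^ 3)
    {Q : Subgroup G} (hQ : ¬ p ∣ Nat.card Q) (hAQ : A ≤ normalizer (Q : Set G)) {a : G} (ha : a ∈ A)
    (hne : ¬ Q ≤ centralizer ({a} : Set G)) :
    ∃ B : Subgroup G, B ≤ A ∧ Nat.card B = p ^ 2 ∧ a ∉ B ∧
      ¬ Q ⊓ centralizer (B : Set G) ≤ centralizer ({a} : Set G) := by
  by_contra hcon
  push Not at hcon
  refine hne (le_of_hyperplanes_le hA hQ hAQ fun B hB hi => ?_)
  by_cases haB : a ∈ B
  · exact inf_le_right.trans (centralizer_le (Set.singleton_subset_iff.mpr haB))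
  refine hcon B hB ?_ haB
  have hc : Nat.card B * B.relIndex A = p ^ 3 := by
    rw [← hA3, ← relIndex_bot_left B, ← relIndex_bot_left A, relIndex_mul_relIndex _ _ _ bot_le hB]
  obtain ⟨k, hk, hBk⟩ := (Nat.dvd_prime_pow hp.out).mp (hc ▸ dvd_mul_right _ _ : Nat.card B ∣ p ^ 3)
  have hk3 : k ≠ 3 := fun e => by
    subst e
    exact haB (eq_of_le_of_card_ge hB (by rw [hA3, hBk]) ▸ ha)
  have hk2 : 2 ≤ k := by
    by_contra hk2
    have h1 : p ^ k * B.relIndex A ≤ p ^ 1 * p :=
      Nat.mul_le_mul (Nat.pow_le_pow_right hp.out.pos (by omega)) hi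
    rw [← hBk, hc, ← pow_succ] at h1
    exact absurd ((Nat.pow_le_pow_iff_right hp.out.one_lt).mp h1) (by norm_num)
  rw [hBk, show k = 2 by omega]

end Geometry

/-- In rank two the commutator with an operator is generated by fixed points. -/
theorem comm_le_of_fixed {X B Y : Subgroup G} {g : G} (hB : Cfsg.IsElementaryAbelian p B)
    (hB2 : p ^ 2 ≤ Nat.card B) (hXs : Group.IsSolvable X) (hX : ¬ p ∣ Nat.card X)
    (hBX : B ≤ normalizer (X : Set G)) (hg : g ∈ B)
    (h : ∀ e ∈ B, e ∉ zpowers g → ⁅X ⊓ centralizer ({e} : Set G), zpowers g⁆ ≤ Y) :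
    ⁅X, zpowers g⁆ ≤ Y := by
  classical
  have hgB : zpowers g ≤ B := zpowers_le.mpr hg
  have hcop : (Nat.card (zpowers g)).Coprime (Nat.card X) :=
    coprime_card_of_pGroup ((elementary_isPGroup hB).to_le hgB) hX
  set E := ⁅X, zpowers g⁆ with hE
  have hEX : E ≤ X := Core.commutator_le_of_normalizes (hgB.trans hBX)
  have hEE : ⁅E, zpowers g⁆ = E :=
    Core.commutator_commutator_eq (hgB.trans hBX) hcop (Or.inl inferInstance)
  have hgg : B ≤ normalizer (zpowers g : Set G) := le_normalizer_of_le_elementary hB le_rfl hgB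
  have hBE : B ≤ normalizer (E : Set G) := by
    intro b hb
    refine mem_normalizer_of_forall_le fun x hx => ?_
    have hm : E.map (MulAut.conj b).toMonoidHom = E := by
      rw [hE, map_commutator, LocalEvenB.map_conj_eq_self_iff_mem_normalizer.mpr (hBX hb),
        LocalEvenB.map_conj_eq_self_iff_mem_normalizer.mpr (hgg hb)]
    exact hm ▸ mem_map_of_mem (MulAut.conj b).toMonoidHom hx
  set G0 := ⨆ e : {e : G // e ∈ B ∧ e ∉ zpowers g},
    ⁅E ⊓ centralizer ({(e : G)} : Set G), zpowers g⁆ with hG0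
  refine le_trans ?_ (iSup_le fun e =>
    (commutator_mono (inf_le_inf_right _ hEX) le_rfl).trans (h e e.2.1 e.2.2) : G0 ≤ Y)
  have hgen : ∀ (e : G), e ∈ B → g ∈ normalizer ((E ⊓ centralizer ({e} : Set G) : Subgroup G) : Set G) :=
    fun e he => le_normalizer_inf hBE (le_normalizer_centralizer_of_le hB
      (Set.singleton_subset_iff.mpr he)) hg
  have hG0E : G0 ≤ E := iSup_le fun e => (commutator_mono inf_le_left le_rfl).trans hEE.le
  have hgG0 : zpowers g ≤ normalizer (G0 : Set G) := zpowers_le.mpr (mem_normalizer_of_forall_le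
    fun x hx => by
      have hle : G0 ≤ G0.comap (MulAut.conj g).toMonoidHom := iSup_le fun e y hy => by
        show g * y * g⁻¹ ∈ G0
        exact le_iSup (fun e : {e : G // e ∈ B ∧ e ∉ zpowers g} =>
          ⁅E ⊓ centralizer ({(e : G)} : Set G), zpowers g⁆) e
          ((mem_normalizer_iff.mp (normalizer_commutator_ge_right _ _ (mem_zpowers g)) y).mp hy)
      exact hle hx)
  let D : ℕ → Subgroup G := fun i => (derivedSeries E i).map E.subtype
  have hDE : ∀ i, D i ≤ E := fun i => map_subtype_le _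
  have hDn : ∀ i, E ⊔ B ≤ normalizer (D i : Set G) := by
    intro i
    induction i with
    | zero =>
      show E ⊔ B ≤ normalizer (((⊤ : Subgroup E).map E.subtype : Subgroup G) : Set G)
      rw [← MonoidHom.range_eq_map, range_subtype]
      exact sup_le le_normalizer hBE
    | succ i ih =>
      intro x hx
      refine mem_normalizer_of_forall_le fun y hy => ?_
      have hm : (D (i + 1)).map (MulAut.conj x).toMonoidHom = D (i + 1) := by
        show ((⁅derivedSeries E i, derivedSeries E i⁆).map E.subtype).map _ =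
          (⁅derivedSeries E i, derivedSeries E i⁆).map E.subtype
        rw [map_commutator, map_commutator,
          LocalEvenB.map_conj_eq_self_iff_mem_normalizer.mpr (ih hx)]
      exact hm ▸ mem_map_of_mem (MulAut.conj x).toMonoidHom hy
  haveI := Core.isSolvable_of_le hXs hEX
  obtain ⟨n, hn⟩ := (Group.isSolvable_def E).mp inferInstance
  suffices key : ∀ i, E ≤ G0 ⊔ D i by
    refine (key n).trans (sup_le le_rfl ?_)
    show (derivedSeries E n).map E.subtype ≤ G0
    rw [hn, Subgroup.map_bot]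
    exact bot_le
  intro i
  induction i with
  | zero =>
    refine le_sup_of_le_right ?_
    show E ≤ (⊤ : Subgroup E).map E.subtype
    rw [← MonoidHom.range_eq_map, range_subtype]
  | succ i ih =>
    set Xi := D i
    set X' := D (i + 1)
    have hX' : X' = ⁅Xi, Xi⁆ := map_commutator _ _ _
    set G1 := G0 ⊔ X' with hG1
    have hG1E : G1 ≤ E := sup_le hG0E (hDE _)
    have hEG : E ≤ G1 ⊔ Xi := ih.trans (sup_le_sup le_sup_left le_rfl)
    set W := G1 ⊓ Xi with hW
    have hX'W : X' ≤ W := le_inf le_sup_right (hX' ▸ Subgroup.commutator_le_self Xi)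
    have hXiW : Xi ≤ normalizer (W : Set G) := fun x hx => mem_normalizer_of_forall_le fun w hw => by
      have h1 : x * w * x⁻¹ * w⁻¹ ∈ X' := hX' ▸ commutator_mem_commutator hx hw.2
      have h2 := mul_mem (hX'W h1) hw
      rwa [inv_mul_cancel_right] at h2
    have hG1W : G1 ≤ normalizer (W : Set G) :=
      le_normalizer_inf le_normalizer ((hG1E.trans le_sup_left).trans (hDn i))
    have hEW : E ≤ normalizer (W : Set G) := hEG.trans (sup_le hG1W hXiW)
    have hgW : g ∈ normalizer (W : Set G) := by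
      refine inf_normalizer_le_normalizer_inf ⟨?_, hDn i (mem_sup_right hg)⟩
      exact normalizer_inf_normalizer_le_normalizer_sup _ _
        ⟨hgG0 (mem_zpowers g), hDn (i + 1) (mem_sup_right hg)⟩
    have hfix : ∀ v ∈ Xi, v⁻¹ * (g * v * g⁻¹) ∈ W := by
      let S : Subgroup G :=
        { carrier := {v | v ∈ Xi ∧ v⁻¹ * (g * v * g⁻¹) ∈ W}
          one_mem' := ⟨one_mem _, by simp⟩
          mul_mem' := by
            rintro u v ⟨hu, hu'⟩ ⟨hv, hv'⟩
            refine ⟨mul_mem hu hv, ?_⟩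
            have e : (u * v)⁻¹ * (g * (u * v) * g⁻¹) =
                v⁻¹ * (u⁻¹ * (g * u * g⁻¹)) * v * (v⁻¹ * (g * v * g⁻¹)) := by group
            rw [e]
            exact mul_mem ((mem_normalizer_iff''.mp (hXiW hv) _).mp hu') hv'
          inv_mem' := by
            rintro v ⟨hv, hv'⟩
            refine ⟨inv_mem hv, ?_⟩
            have e : v⁻¹⁻¹ * (g * v⁻¹ * g⁻¹) = v * (v⁻¹ * (g * v * g⁻¹))⁻¹ * v⁻¹ := by group
            rw [e]
            exact (mem_normalizer_iff.mp (hXiW hv) _).mp (inv_mem hv') }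
      suffices Xi ≤ S from fun v hv => (this hv).2
      haveI := hB.1
      refine LocalEven.le_of_centralizers_le hB.2 hB2 (le_sup_right.trans (hDn i))
        (not_dvd_of_le hX ((hDE i).trans hEX)) fun e he he1 v hv => ⟨hv.1, ?_⟩
      by_cases heg : e ∈ zpowers g
      · have hc : v ∈ centralizer ({g} : Set G) := centralizer_eq_of_mem hB hg heg he1 ▸ hv.2
        rw [← mem_centralizer_singleton_iff.mp hc, mul_inv_cancel_right, inv_mul_cancel]
        exact one_mem W
      · have hm : v⁻¹ * (g * v * g⁻¹) ∈ ⁅E ⊓ centralizer ({e} : Set G), zpowers g⁆ := by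
          have h1 := commutator_mem_commutator (H₂ := zpowers g)
            (inv_mem (show v ∈ E ⊓ centralizer ({e} : Set G) from ⟨hDE i hv.1, hv.2⟩)) (mem_zpowers g)
          rw [commutatorElement_def, inv_inv] at h1
          simpa [mul_assoc] using h1
        exact ⟨mem_sup_left (le_iSup (fun e : {e : G // e ∈ B ∧ e ∉ zpowers g} =>
          ⁅E ⊓ centralizer ({(e : G)} : Set G), zpowers g⁆) ⟨e, he, heg⟩ hm),
          Xi.mul_mem (Xi.inv_mem hv.1)
            ((mem_normalizer_iff.mp (hDn i (mem_sup_right hg)) v).mp hv.1)⟩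
    set N := normalizer (W : Set G)
    haveI : (W.subgroupOf N).Normal := normal_in_normalizer
    let π := QuotientGroup.mk' (W.subgroupOf N)
    have hgT : π ⟨g, hgW⟩ ∈ centralizer ((Xi.subgroupOf N).map π : Set (N ⧸ W.subgroupOf N)) := by
      rw [mem_centralizer_iff]
      rintro _ ⟨v, hv, rfl⟩
      have h1 : π (v⁻¹ * (⟨g, hgW⟩ * v * ⟨g, hgW⟩⁻¹)) = 1 :=
        (QuotientGroup.eq_one_iff _).mpr (hfix v hv)
      rw [map_mul, map_inv, inv_mul_eq_one, map_mul, map_mul, map_inv,
        eq_mul_inv_iff_mul_eq] at h1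
      exact h1
    have hET : (E.subgroupOf N).map π ≤ normalizer ((Xi.subgroupOf N).map π : Set _) := by
      rintro _ ⟨x, hx, rfl⟩
      refine le_normalizer_map π ⟨x, ?_, rfl⟩
      rw [← subgroupOf_normalizer_eq hXiW]
      exact (le_sup_left.trans (hDn i)) hx
    have hEc := comm_le_centralizer hgT hET
    have hEb : ∀ x (hx : x ∈ E), π ⟨x, hEW hx⟩ ∈
        centralizer ((Xi.subgroupOf N).map π : Set (N ⧸ W.subgroupOf N)) := by
      intro x hx
      refine hEc ?_
      have he : ⁅E.subgroupOf N, zpowers (⟨g, hgW⟩ : N)⁆.map N.subtype = E := by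
        rw [map_commutator, map_subgroupOf_eq_of_le hEW, MonoidHom.map_zpowers]
        exact hEE
      obtain ⟨z, hz, hze⟩ := he.ge hx
      have hzm := mem_map_of_mem π hz
      rw [map_commutator, MonoidHom.map_zpowers] at hzm
      rwa [show (⟨x, hEW hx⟩ : N) = z from Subtype.ext hze.symm]
    have hXiG1 : Xi ≤ normalizer (G1 : Set G) := fun v hv => mem_normalizer_of_forall_le fun x hx => by
      have h1 := mem_centralizer_iff.mp (hEb x (hG1E hx)) _ ⟨⟨v, hXiW hv⟩, hv, rfl⟩
      rw [← map_mul, ← map_mul] at h1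
      have h2 : ((v * x)⁻¹ * (x * v) : G) ∈ W := (QuotientGroup.eq (s := W.subgroupOf N)).mp h1
      have h3 := (mem_normalizer_iff.mp (mul_mem (hXiW hv) (hG1W hx)) _).mp h2
      have h4 : v * x * ((v * x)⁻¹ * (x * v)) * (v * x)⁻¹ = x * v * x⁻¹ * v⁻¹ := by group
      rw [h4] at h3
      have h5 := G1.mul_mem (G1.inv_mem h3.1) hx
      rwa [show (x * v * x⁻¹ * v⁻¹)⁻¹ * x = v * x * v⁻¹ by group] at h5
    intro x hx
    set M := normalizer (G1 : Set G)
    haveI : (G1.subgroupOf M).Normal := normal_in_normalizer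
    let ρ := QuotientGroup.mk' (G1.subgroupOf M)
    have hgM : g ∈ M := normalizer_inf_normalizer_le_normalizer_sup _ _
      ⟨hgG0 (mem_zpowers g), hDn (i + 1) (mem_sup_right hg)⟩
    have hEM : E ≤ M := hEG.trans (sup_le le_normalizer hXiG1)
    have hEfix : (E.subgroupOf M).map ρ ≤ centralizer ({ρ ⟨g, hgM⟩} : Set _) := by
      rintro _ ⟨⟨e, heM⟩, he, rfl⟩
      obtain ⟨v, hv, u, hu, huv⟩ := (Core.mem_sup_iff_mul' hXiG1).mp (sup_comm G1 Xi ▸ hEG he)
      have hρv : ρ ⟨v, hG1E hv |> fun h => hEM h⟩ = 1 := (QuotientGroup.eq_one_iff _).mpr hv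
      have hsplit : (⟨e, heM⟩ : M) = ⟨v, hEM (hG1E hv)⟩ * ⟨u, hXiG1 hu⟩ := Subtype.ext huv
      rw [hsplit, map_mul, hρv, one_mul, mem_centralizer_singleton_iff]
      have h1 : ρ (⟨u, hXiG1 hu⟩⁻¹ * (⟨g, hgM⟩ * ⟨u, hXiG1 hu⟩ * ⟨g, hgM⟩⁻¹)) = 1 :=
        (QuotientGroup.eq_one_iff _).mpr (hfix u hu).1
      rw [map_mul, map_inv, inv_mul_eq_one, map_mul, map_mul, map_inv,
        eq_mul_inv_iff_mul_eq] at h1
      exact h1
    have he : ⁅E.subgroupOf M, zpowers (⟨g, hgM⟩ : M)⁆.map M.subtype = E := by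
      rw [map_commutator, map_subgroupOf_eq_of_le hEM, MonoidHom.map_zpowers]
      exact hEE
    obtain ⟨z, hz, rfl⟩ := he.ge hx
    have hzm := mem_map_of_mem ρ hz
    rw [map_commutator, MonoidHom.map_zpowers, comm_eq_bot_iff.mpr hEfix, mem_bot] at hzm
    exact (QuotientGroup.eq_one_iff (N := G1.subgroupOf M) z).mp hzm

/-- In rank three the commutator with an operator is generated by lines of fixed points. -/
theorem comm_le_of_lines {A X Y : Subgroup G} (hA : Cfsg.IsElementaryAbelian p A)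
    (hA3 : Nat.card A = p ^ 3) (hXs : Group.IsSolvable X) (hX : ¬ p ∣ Nat.card X)
    (hAX : A ≤ normalizer (X : Set G)) {b : G} (hb : b ∈ A) (hb1 : b ≠ 1)
    (h : ∀ k : Subgroup G, k ≤ A → Nat.card k = p ^ 2 → b ∉ k →
      ⁅X ⊓ centralizer (k : Set G), zpowers b⁆ ≤ Y) : ⁅X, zpowers b⁆ ≤ Y := by
  have hA2 : p ^ 2 ≤ Nat.card A := hA3 ▸ Nat.pow_le_pow_right hp.out.pos (by norm_num)
  obtain ⟨a, ha, hab⟩ := exists_not_mem_zpowers hA le_rfl hA2 b hb
  set B := zpowers b ⊔ zpowers a with hBdef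
  have hBA : B ≤ A := sup_le (zpowers_le.mpr hb) (zpowers_le.mpr ha)
  have hB : Nat.card B = p ^ 2 := card_pair hA hb hb1 ha hab
  refine comm_le_of_fixed (elementary_of_le hA hBA) hB.ge hXs hX (hBA.trans hAX)
    (mem_sup_left (mem_zpowers b)) fun e he heb => ?_
  obtain ⟨c, hc, hcB⟩ : ∃ c ∈ A, c ∉ B := by
    by_contra hcon
    push Not at hcon
    have := card_le_of_le (show A ≤ B from hcon)
    rw [hA3, hB] at this
    exact absurd ((Nat.pow_le_pow_iff_right hp.out.one_lt).mp this) (by norm_num)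
  have hcb : c ∉ zpowers b := fun h' => hcB (mem_sup_left h')
  set B' := zpowers b ⊔ zpowers c with hB'def
  have hB'A : B' ≤ A := sup_le (zpowers_le.mpr hb) (zpowers_le.mpr hc)
  have hAe : A ≤ normalizer ((X ⊓ centralizer ({e} : Set G) : Subgroup G) : Set G) :=
    le_normalizer_inf hAX (le_normalizer_centralizer_of_le hA
      (Set.singleton_subset_iff.mpr (hBA he)))
  refine comm_le_of_fixed (elementary_of_le hA hB'A) (card_pair hA hb hb1 hc hcb).ge
    (Core.isSolvable_of_le hXs inf_le_left) (not_dvd_of_le hX inf_le_left) (hB'A.trans hAe)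
    (mem_sup_left (mem_zpowers b)) fun f hf hfb => ?_
  have he1 : e ≠ 1 := fun e' => heb (e' ▸ one_mem _)
  have hfe : f ∉ zpowers e := by
    intro hfe
    have hfB : f ∈ B := zpowers_le.mpr he hfe
    have h1 := line_eq hA hBA hB (mem_sup_left (mem_zpowers b)) hb1 hfB hfb
    have h2 := line_eq hA hB'A (card_pair hA hb hb1 hc hcb) (mem_sup_left (mem_zpowers b)) hb1 hf hfb
    exact hcB ((h2.symm.trans h1).le (mem_sup_right (mem_zpowers c)))
  refine le_trans (commutator_mono ?_ le_rfl) (h (zpowers e ⊔ zpowers f)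
    (sup_le (zpowers_le.mpr (hBA he)) (zpowers_le.mpr (hB'A hf)))
    (card_pair hA (hBA he) he1 (hB'A hf) hfe) fun hbk => ?_)
  · exact le_inf (inf_le_left.trans inf_le_left)
      (le_centralizer_pair (inf_le_left.trans inf_le_right) inf_le_right)
  · have hk2 := card_pair hA (hBA he) he1 (hB'A hf) hfe
    have hkA : zpowers e ⊔ zpowers f ≤ A :=
      sup_le (zpowers_le.mpr (hBA he)) (zpowers_le.mpr (hB'A hf))
    have h1 := line_eq hA hkA hk2 hbk hb1 (mem_sup_left (mem_zpowers e)) heb
    have h2 := line_eq hA hBA hB (mem_sup_left (mem_zpowers b)) hb1 he heb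
    have hfB : f ∈ B := (h1.symm.trans h2).le (mem_sup_right (mem_zpowers f))
    have h3 := line_eq hA hBA hB (mem_sup_left (mem_zpowers b)) hb1 hfB hfb
    have h4 := line_eq hA hB'A (card_pair hA hb hb1 hc hcb) (mem_sup_left (mem_zpowers b)) hb1 hf hfb
    exact hcB ((h4.symm.trans h3).le (mem_sup_right (mem_zpowers c)))

end CfsgLib.Signalizer.Solv
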