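import Cfsg.Agent.Lib.Signalizer.Solvable.Flavell
import Cfsg.Agent.Lib.Signalizer.Solvable.Generation
import Cfsg.Agent.Lib.Signalizer.Transitivity
import Cfsg.Agent.Lib.OddLocal.ThompsonCenter
import Cfsg.Prelude.Def_HallClasses

/-!
Owner: helper11. Members of a solvable signalizer functor with values of odd order, in a situation
where proper local and proper prime-restricted subfunctors are complete.
-/

set_option autoImplicit false

namespace CfsgLib.Signalizer.Solv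

open Subgroup
open scoped commutatorElement

variable {G : Type*} [Group G]

/-- The functor has a member containing all its values. -/
def Done (p : ℕ) (A : Subgroup G) (θ : G → Subgroup G) : Prop :=
  ∃ W ∈ Cfsg.signalizerFamily p A θ, ∀ a ∈ A, a ≠ 1 → θ a ≤ W

/-- The primes of the functor. -/
def InPi (A : Subgroup G) (θ : G → Subgroup G) (r : ℕ) : Prop :=
  r.Prime ∧ ∃ a ∈ A, a ≠ 1 ∧ r ∣ Nat.card (θ a)

/-- The standing hypotheses on the functor. -/
structure Setup (p : ℕ) (A : Subgroup G) (θ : G → Subgroup G) : Prop where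
  elem : Cfsg.IsElementaryAbelian p A
  card : Nat.card A = p ^ 3
  functor : Cfsg.IsSolvableSignalizerFunctor p A θ
  odd : ∀ a ∈ A, a ≠ 1 → Odd (Nat.card (θ a))

/-- The situation of a minimal counterexample. -/
structure Hyp (p : ℕ) (A : Subgroup G) (θ : G → Subgroup G) : Prop extends Setup p A θ where
  loc : ∀ X ∈ Cfsg.signalizerFamily p A θ, X ≠ ⊥ →
    ∃ W ∈ Cfsg.signalizerFamily p A θ, ∀ Y ∈ Cfsg.signalizerFamily p A θ,
      Y ≤ normalizer (X : Set G) → Y ≤ W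
  sub : ∀ (π : Set ℕ) (r : ℕ), InPi A θ r → r ∉ π →
    ∃ W ∈ Cfsg.signalizerFamily p A θ, ∀ Y ∈ Cfsg.signalizerFamily p A θ,
      Cfsg.IsPiSubgroup π Y → Cfsg.signalizerInf A θ ≤ normalizer (Y : Set G) → Y ≤ W
  not_done : ¬ Done p A θ

/-- A maximal member. -/
def IsTop (p : ℕ) (A : Subgroup G) (θ : G → Subgroup G) (M : Subgroup G) : Prop :=
  M ∈ Cfsg.signalizerFamily p A θ ∧ ∀ Y ∈ Cfsg.signalizerFamily p A θ, M ≤ Y → Y ≤ M

variable [Finite G] {p : ℕ} [hp : Fact p.Prime] {A : Subgroup G} {θ : G → Subgroup G}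
  {M K X Y : Subgroup G} {a : G}

local notation "Fam" => Cfsg.signalizerFamily p A θ

omit [Finite G] hp in
theorem IsTop.eq (h : IsTop p A θ M) (hY : Y ∈ Fam) (hle : M ≤ Y) : M = Y :=
  le_antisymm hle (h.2 Y hY hle)

omit hp in
theorem exists_top (hX : X ∈ Fam) : ∃ K, IsTop p A θ K ∧ X ≤ K := by
  obtain ⟨Q, hQ, hQF, hmax⟩ := Set.Finite.exists_le_maximal
    (s := {U : Subgroup G | U ∈ Cfsg.signalizerFamily p A θ}) (Set.toFinite _) (a := X) hX
  exact ⟨Q, ⟨hQF, fun U hU hle => hmax hU hle⟩, hQ⟩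

omit [Finite G] in
theorem fam_solv (hX : X ∈ Fam) : Group.IsSolvable X := hX.1

omit [Finite G] in
theorem fam_not_dvd (hX : X ∈ Fam) : ¬ p ∣ Nat.card X := hX.2.1

omit hp in
theorem fam_norm (hX : X ∈ Fam) : A ≤ normalizer (X : Set G) :=
  conj_mem_iff_le_normalizer.mp hX.2.2.1

omit [Finite G] hp in
theorem fam_fix (hX : X ∈ Fam) (ha : a ∈ A) (ha1 : a ≠ 1) : X ⊓ centralizer {a} ≤ θ a :=
  hX.2.2.2 a ha ha1

theorem mem_oq (hX : X ∈ Fam) (q : ℕ) : oq q X ∈ Fam :=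
  family_of_le hX (oq_le q X) (le_normalizer_oq_of (fam_norm hX) q)

theorem mem_oq' (hX : X ∈ Fam) (q : ℕ) : oq' q X ∈ Fam :=
  family_of_le hX (oq'_le q X) (le_normalizer_oq'_of (fam_norm hX) q)

theorem mem_inf (hX : X ∈ Fam) (hY : A ≤ normalizer (Y : Set G)) : X ⊓ Y ∈ Fam :=
  family_of_le hX inf_le_left (le_normalizer_inf (fam_norm hX) hY)

omit [Finite G] hp in
theorem orderOf_pow (hS : Setup p A θ) (ha : a ∈ A) : a ^ p = 1 := hS.elem.2 a ha

theorem coprime_orderOf (hS : Setup p A θ) (hX : X ∈ Fam) (ha : a ∈ A) :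
    (orderOf a).Coprime (Nat.card X) :=
  (hp.out.coprime_iff_not_dvd.mpr (fam_not_dvd hX)).coprime_dvd_left
    (orderOf_dvd_of_pow_eq_one (hS.elem.2 a ha))

theorem card_A_ge (hS : Setup p A θ) : p ^ 2 ≤ Nat.card A :=
  hS.card ▸ Nat.pow_le_pow_right hp.out.pos (by norm_num)

theorem inPi_of_dvd (hS : Setup p A θ) (hX : X ∈ Fam) {r : ℕ} (hr : r.Prime)
    (hd : r ∣ Nat.card X) : InPi A θ r := by
  haveI := Fact.mk hr
  refine ⟨hr, ?_⟩
  by_contra hcon
  push Not at hcon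
  obtain ⟨P, hP⟩ := Core.exists_invariant_sylow (fam_norm hX)
    (coprime_card_of_pGroup (elementary_isPGroup hS.elem) (fam_not_dvd hX)) (Or.inr hX.1) r
  set S := (P : Subgroup X).map X.subtype with hSdef
  have hSX : S ≤ X := map_subtype_le _
  have hS1 : S = ⊥ := by
    rw [← le_bot_iff]
    haveI := hS.elem.1
    refine LocalEven.le_of_centralizers_le hS.elem.2 (card_A_ge hS) hP
      (not_dvd_of_le (fam_not_dvd hX) hSX) fun b hb hb1 x hx => ?_
    obtain ⟨k, hk⟩ := ((P.isPGroup'.map X.subtype).to_le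
      (inf_le_left : S ⊓ centralizer {b} ≤ S)).exists_card_eq
    have hk0 : k = 0 := by
      by_contra hk0
      refine hcon b hb hb1 ((dvd_pow_self r hk0).trans (hk ▸ card_dvd_of_le ?_))
      exact (inf_le_inf_right _ hSX).trans (fam_fix hX hb hb1)
    rw [hk0, pow_zero, card_eq_one] at hk
    exact hk.le hx
  have h2 : r ^ (Nat.card X).factorization r = 1 := by
    rw [← P.card_eq_multiplicity, ← card_map_of_injective X.subtype_injective, ← hSdef, hS1,
      card_bot]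
  have h3 := hr.factorization_pos_of_dvd Nat.card_pos.ne' hd
  exact absurd h2 (Nat.one_lt_pow h3.ne' hr.one_lt).ne'

theorem prime_ne_two_of_dvd (hS : Setup p A θ) (hX : X ∈ Fam) {r : ℕ} (hr : r.Prime)
    (hd : r ∣ Nat.card X) : r ≠ 2 := by
  obtain ⟨-, b, hb, hb1, hdb⟩ := inPi_of_dvd hS hX hr hd
  rintro rfl
  exact (Nat.not_even_iff_odd.mpr (hS.odd b hb hb1)) (even_iff_two_dvd.mpr hdb)

theorem fam_odd (hS : Setup p A θ) (hX : X ∈ Fam) : Odd (Nat.card X) := by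
  by_contra h
  exact prime_ne_two_of_dvd hS hX Nat.prime_two
    (even_iff_two_dvd.mp (Nat.not_odd_iff_even.mp h)) rfl

theorem dvd_of_oq_ne_bot {q : ℕ} (hq : q.Prime) (h : oq q X ≠ ⊥) : q ∣ Nat.card X := by
  haveI := Fact.mk hq
  obtain ⟨k, hk⟩ := (oq_isPGroup q X).exists_card_eq
  have hk0 : k ≠ 0 := by
    rintro rfl
    rw [pow_zero, card_eq_one] at hk
    exact h hk
  exact (hk ▸ dvd_pow_self q hk0).trans (card_dvd_of_le (oq_le q X))

theorem ne_p_of_dvd (hX : X ∈ Fam) {q : ℕ} (hd : q ∣ Nat.card X) : q ≠ p := fun e =>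
  fam_not_dvd hX (e ▸ hd)

theorem inPi_of_oq_ne_bot (hS : Setup p A θ) (hX : X ∈ Fam) {q : ℕ} (hq : q.Prime)
    (h : oq q X ≠ ⊥) : InPi A θ q :=
  inPi_of_dvd hS hX hq (dvd_of_oq_ne_bot hq h)

/-- The fundamental property of a member containing a value. -/
theorem star (hS : Setup p A θ) (hM : M ∈ Fam) (hK : K ∈ Fam) (ha : a ∈ A) (ha1 : a ≠ 1)
    (hle : θ a ≤ M) {q : ℕ} (hq : q.Prime) :
    ⁅oq q M ⊓ K, zpowers a⁆ ≤ oq q K := by
  haveI := Fact.mk hq
  by_cases hb : oq q M ⊓ K = ⊥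
  · rw [hb, commutator_bot_left]; exact bot_le
  have hd : q ∣ Nat.card M :=
    dvd_of_oq_ne_bot hq fun h => hb (le_bot_iff.mp (inf_le_left.trans h.le))
  haveI := fam_solv hK
  have haM := fam_norm hM ha
  refine flavell (p := p) (prime_ne_two_of_dvd hS hM hq hd) (ne_p_of_dvd hM hd) (hS.elem.2 a ha)
    (fam_not_dvd hK) (fam_norm hK ha) inf_le_right ((oq_isPGroup q M).to_le inf_le_left)
    (le_normalizer_inf (le_normalizer_oq_of (fam_norm hM) q) (fam_norm hK) ha) ?_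
  intro x hx
  exact inf_normalizer_le_normalizer_inf ⟨le_normalizer_oq q M (hle (fam_fix hK ha ha1 hx)),
    le_normalizer hx.1⟩

/-- A fixed-point-free operator pushes an invariant group into the centralizer. -/
theorem fpf_centralizes (hS : Setup p A θ) {T : Subgroup G} {r t : ℕ} (hr : r.Prime)
    (ht : t.Prime) (hrt : r ≠ t) (hX : X ∈ Fam) (hXr : IsPGroup r X) (hT : T ∈ Fam)
    (hTt : IsPGroup t T) (hXT : X ≤ normalizer (T : Set G)) (ha : a ∈ A)
    (hfix : T ⊓ centralizer {a} ≤ centralizer (X : Set G)) :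
    ⁅X, zpowers a⁆ ≤ centralizer (T : Set G) := by
  haveI := Fact.mk hr
  haveI := Fact.mk ht
  by_cases hb : X = ⊥
  · rw [hb, commutator_bot_left]; exact bot_le
  obtain ⟨k, hk⟩ := hXr.exists_card_eq
  have hd : r ∣ Nat.card X := by
    refine hk ▸ dvd_pow_self r ?_
    rintro rfl
    rw [pow_zero, card_eq_one] at hk
    exact hb hk
  exact comm_centralizes (p := p) (prime_ne_two_of_dvd hS hX hr hd) (ne_p_of_dvd hX hd) hrt _ rfl
    hTt (fam_not_dvd hT) hXr (hS.elem.2 a ha) hXT (fam_norm hT ha) (fam_norm hX ha) hfix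

theorem comm_ne_bot {a : G} (h : ¬ X ≤ centralizer ({a} : Set G)) : ⁅X, zpowers a⁆ ≠ ⊥ :=
  fun e => h (comm_eq_bot_iff.mp e)

theorem comm_idem (hS : Setup p A θ) (hX : X ∈ Fam) (ha : a ∈ A) :
    ⁅⁅X, zpowers a⁆, zpowers a⁆ = ⁅X, zpowers a⁆ :=
  Core.commutator_commutator_eq (zpowers_le.mpr (fam_norm hX ha))
    (by rw [Nat.card_zpowers]; exact coprime_orderOf hS hX ha) (Or.inl inferInstance)

theorem mem_comm (hS : Setup p A θ) (hX : X ∈ Fam) (ha : a ∈ A) : ⁅X, zpowers a⁆ ∈ Fam := by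
  refine family_of_le hX (comm_le_self (fam_norm hX ha)) fun b hb => ?_
  refine mem_normalizer_of_forall_le fun x hx => ?_
  have hm : (⁅X, zpowers a⁆).map (MulAut.conj b).toMonoidHom = ⁅X, zpowers a⁆ := by
    rw [map_commutator, LocalEvenB.map_conj_eq_self_iff_mem_normalizer.mpr (fam_norm hX hb),
      LocalEvenB.map_conj_eq_self_iff_mem_normalizer.mpr
        (le_normalizer_of_le_elementary hS.elem le_rfl (zpowers_le.mpr ha) hb)]
  exact hm ▸ mem_map_of_mem (MulAut.conj b).toMonoidHom hx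

/-! ### The fixed part -/

theorem A_ne_bot (hS : Setup p A θ) : A ≠ ⊥ := fun e => by
  obtain ⟨b, hb, hb1⟩ := exists_ne_one_of_sq_le (card_A_ge hS)
  exact hb1 (mem_bot.mp (e ▸ hb))

theorem inf_mem (hS : Setup p A θ) : Cfsg.signalizerInf A θ ∈ Fam :=
  inf_mem_family hS.functor le_rfl (A_ne_bot hS)

omit hp in
theorem inf_le (ha : a ∈ A) (ha1 : a ≠ 1) : Cfsg.signalizerInf A θ ≤ θ a := inf_le_theta ha ha1

omit hp in
theorem inf_le_of_theta_le (ha : a ∈ A) (ha1 : a ≠ 1) (h : θ a ≤ M) :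
    Cfsg.signalizerInf A θ ≤ M := (inf_le ha ha1).trans h

/-! ### Locality -/

theorem exists_local_top (h : Hyp p A θ) (hX : X ∈ Fam) (hX1 : X ≠ ⊥) :
    ∃ K, IsTop p A θ K ∧ ∀ Y ∈ Fam, Y ≤ normalizer (X : Set G) → Y ≤ K := by
  obtain ⟨W, hW, hWX⟩ := h.loc X hX hX1
  obtain ⟨K, hK, hWK⟩ := exists_top hW
  exact ⟨K, hK, fun Y hY hYX => (hWX Y hY hYX).trans hWK⟩

theorem le_top_of_normalizes (h : Hyp p A θ) (hM : IsTop p A θ M) (hX : X ∈ Fam) (hX1 : X ≠ ⊥)
    (hMX : M ≤ normalizer (X : Set G)) (hY : Y ∈ Fam) (hYX : Y ≤ normalizer (X : Set G)) :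
    Y ≤ M := by
  obtain ⟨K, hK, hKX⟩ := exists_local_top h hX hX1
  rw [hM.eq hK.1 (hKX M hM.1 hMX)]
  exact hKX Y hY hYX

theorem le_top_of_oq (h : Hyp p A θ) (hM : IsTop p A θ M) {q : ℕ} (hne : oq q M ≠ ⊥) (hY : Y ∈ Fam)
    (hYX : Y ≤ normalizer (oq q M : Set G)) : Y ≤ M :=
  le_top_of_normalizes h hM (mem_oq hM.1 q) hne (le_normalizer_oq q M) hY hYX

theorem le_top_of_centralizes_oq (h : Hyp p A θ) (hM : IsTop p A θ M) {q : ℕ} (hne : oq q M ≠ ⊥)
    (hY : Y ∈ Fam) (hYX : Y ≤ centralizer (oq q M : Set G)) : Y ≤ M :=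
  le_top_of_oq h hM hne hY (hYX.trans (centralizer_le_normalizer _))

theorem exists_theta_not_le (h : Hyp p A θ) (hM : M ∈ Fam) : ∃ b ∈ A, b ≠ 1 ∧ ¬ θ b ≤ M := by
  by_contra hcon
  push Not at hcon
  exact h.not_done ⟨M, hM, hcon⟩

theorem top_ne_bot (h : Hyp p A θ) (hM : IsTop p A θ M) : M ≠ ⊥ := by
  rintro rfl
  obtain ⟨b, hb, hb1, hnle⟩ := exists_theta_not_le h hM.1
  exact hnle (hM.2 _ (theta_mem_family h.functor hb hb1) bot_le)

theorem exists_oq_top (h : Hyp p A θ) (hM : IsTop p A θ M) : ∃ q : ℕ, q.Prime ∧ oq q M ≠ ⊥ :=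
  haveI := fam_solv hM.1
  exists_oq_ne_bot (top_ne_bot h hM)

end CfsgLib.Signalizer.Solv
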